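import Groth.Agent.HypSec.Chart
import Groth.Agent.CIBertini.Generic
import Groth.Agent.CIBertini.Local
import Groth.Agent.CotT.Smooth
import Groth.Agent.SerreReg.Regular

/-! A general member of an affine linear family of functions separating tangent vectors cuts out a smooth section. -/

set_option autoImplicit false

noncomputable section

namespace Groth.Agent.HypSec

open MvPolynomial KaehlerDifferential IsLocalRing

universe u

variable {k : Type u} [Field k]

/-- Parameters satisfying `r` independent affine linear conditions at some point of `T`, `dim T < r`, lie on a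
hypersurface. -/
theorem exists_bound_linear {T : Type u} [CommRing T] [Algebra k T] [Algebra.FiniteType k T] {m r : ℕ} {e : ℕ}
    (he : e < r) (hd : ringKrullDim T ≤ e) (M : Matrix (Fin r) (Fin m) T) (v : Fin r → T) (cols : Fin r → Fin m)
    (hdet : IsUnit (M.submatrix id cols).det) :
    ∃ g : MvPolynomial (Fin m) k, g ≠ 0 ∧ ∀ (a : Fin m → k) {K : Type u} [Field K] (φ : T →+* K),
      (∀ l, φ (v l + ∑ i, algebraMap k T (a i) * M l i) = 0) → eval a g = 0 := by
  classical
  rcases subsingleton_or_nontrivial T with hT | hT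
  · refine ⟨1, one_ne_zero, fun a K _ φ _ => absurd ?_ (one_ne_zero (α := K))⟩
    rw [← map_one φ, Subsingleton.elim (1 : T) 0, map_zero]
  haveI : IsNoetherianRing T := Algebra.FiniteType.isNoetherianRing k T
  have hcols : Function.Injective cols := by
    intro i j hij
    by_contra hne
    exact hdet.ne_zero (Matrix.det_zero_of_column_eq hne fun l => by simp [hij])
  let S : Finset (Fin m) := Finset.univ.image cols
  let J := {i : Fin m // i ∉ S}
  let B := MvPolynomial J T
  haveI : Algebra.FiniteType k B := Algebra.FiniteType.trans (S := T) inferInstance inferInstance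
  let MS : Matrix (Fin r) (Fin r) B := (M.submatrix id cols).map C
  let w : Fin r → B := fun l => C (v l) + ∑ j : J, C (M l j.1) * X j
  let aS : Fin r → B := -(MS⁻¹.mulVec w)
  let aB : Fin m → B := fun i => if h : ∃ l, cols l = i then aS h.choose else
    X ⟨i, fun hi => h (by simpa [S] using hi)⟩
  let ψ : MvPolynomial (Fin m) k →ₐ[k] B := aeval aB
  have hrm : r ≤ m := by simpa using Fintype.card_le_of_injective cols hcols
  have hcard : Fintype.card J = m - r := by
    rw [Fintype.card_subtype_compl, Fintype.card_coe, Fintype.card_fin,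
      Finset.card_image_of_injective _ hcols, Finset.card_univ, Fintype.card_fin]
  have hnot : ¬ Function.Injective ψ := by
    intro hinj
    have h := CIBertini.ringKrullDim_le_of_injective ψ hinj
    rw [MvPolynomial.ringKrullDim_of_isNoetherianRing, MvPolynomial.ringKrullDim_of_isNoetherianRing,
      ringKrullDim_eq_zero_of_field, zero_add, Nat.card_eq_fintype_card, Fintype.card_fin,
      Nat.card_eq_fintype_card, hcard] at h
    have h' : ((m : ℕ) : WithBot ℕ∞) ≤ ((e + (m - r) : ℕ) : WithBot ℕ∞) :=
      h.trans (by push_cast; exact add_le_add hd le_rfl)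
    have h'' : m ≤ e + (m - r) := by exact_mod_cast h'
    omega
  obtain ⟨g, hg, hg0⟩ : ∃ g, ψ g = 0 ∧ g ≠ 0 := by
    by_contra hh
    push Not at hh
    exact hnot ((injective_iff_map_eq_zero ψ).2 hh)
  refine ⟨g, hg0, fun a K _ φ hφ => ?_⟩
  let χ : B →+* K := eval₂Hom φ fun j => φ (algebraMap k T (a j.1))
  have hχC : ∀ t, χ (C t) = φ t := fun t => eval₂Hom_C _ _ _
  have hMSu : IsUnit MS.det := by
    have : MS.det = C ((M.submatrix id cols).det) := (RingHom.map_det C _).symm
    rw [this]; exact hdet.map C
  have hMv : MS.mulVec aS + w = 0 := by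
    rw [show aS = -(MS⁻¹.mulVec w) from rfl, Matrix.mulVec_neg, Matrix.mulVec_mulVec, Matrix.mul_nonsing_inv _ hMSu,
      Matrix.one_mulVec, neg_add_cancel]
  have hker : (χ.mapMatrix (MS⁻¹) * (χ.mapMatrix MS)).mulVec
      (fun l => χ (aS l) - φ (algebraMap k T (a (cols l)))) = 0 := by
    rw [← Matrix.mulVec_mulVec]
    refine (congrArg _ ?_).trans (Matrix.mulVec_zero _)
    funext l
    have h1 : χ (∑ j, MS l j * aS j + w l) = 0 := by
      have := congrArg χ (congrFun hMv l)
      simpa [Matrix.mulVec, dotProduct] using this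
    have h2 := hφ l
    rw [map_add, map_sum, ← Finset.sum_add_sum_compl S, Finset.sum_image hcols.injOn,
      Finset.sum_subtype Sᶜ (fun j => Finset.mem_compl) (fun j => φ (algebraMap k T (a j) * M l j))] at h2
    simp only [w, map_add, map_sum, map_mul, MS, Matrix.map_apply, Matrix.submatrix_apply, id_eq, hχC,
      show ∀ j : J, χ (X j) = φ (algebraMap k T (a j.1)) from fun j => eval₂Hom_X' _ _ _] at h1
    simp only [map_mul, mul_comm (φ (algebraMap k T (a _)))] at h2
    simp only [Matrix.mulVec, dotProduct, RingHom.mapMatrix_apply, MS, Matrix.map_apply, Matrix.submatrix_apply,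
      id_eq, hχC, mul_sub, Finset.sum_sub_distrib, Pi.zero_apply]
    linear_combination h1 - h2
  rw [← map_mul, Matrix.nonsing_inv_mul _ hMSu, map_one, Matrix.one_mulVec] at hker
  have haB : ∀ i, χ (aB i) = φ (algebraMap k T (a i)) := by
    intro i
    by_cases h : ∃ l, cols l = i
    · obtain ⟨l, rfl⟩ := h
      have hl : (⟨l, rfl⟩ : ∃ p, cols p = cols l).choose = l :=
        hcols (⟨l, rfl⟩ : ∃ p, cols p = cols l).choose_spec
      simp only [aB, dif_pos (⟨l, rfl⟩ : ∃ p, cols p = cols l), hl]
      exact sub_eq_zero.1 (congrFun hker l)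
    · simp only [aB, dif_neg h]
      exact eval₂Hom_X' _ _ _
  have hk : ∀ p : MvPolynomial (Fin m) k, χ (ψ p) = φ (algebraMap k T (eval a p)) := by
    intro p
    induction p using MvPolynomial.induction_on with
    | C c =>
      simp only [ψ, aeval_C, eval_C, IsScalarTower.algebraMap_apply k T B, MvPolynomial.algebraMap_eq]
      exact hχC _
    | add p q hp hq => simp [map_add, hp, hq]
    | mul_X p i hp =>
      rw [map_mul, map_mul, hp, aeval_X, map_mul, map_mul, map_mul, eval_X]
      exact congrArg _ (haB i)
  have := hk g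
  rw [hg, map_zero] at this
  exact (map_eq_zero (φ.comp (algebraMap k T))).1 this.symm

/-- A matrix of full row rank has an invertible maximal minor. -/
theorem exists_minor {K : Type u} [Field K] {m r : ℕ} (M : Matrix (Fin r) (Fin m) K)
    (h : ∀ f : (Fin r → K) →ₗ[K] K, (∀ i, f (fun l => M l i) = 0) → f = 0) :
    ∃ cols : Fin r → Fin m, IsUnit (M.submatrix id cols).det := by
  let s : Set (Fin r → K) := Set.range fun i l => M l i
  have hs : Submodule.span K s = ⊤ := by
    by_contra hne
    obtain ⟨f, hf0, hf⟩ := Submodule.exists_le_ker_of_lt_top _ (lt_top_iff_ne_top.2 hne)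
    exact hf0 (h f fun i => hf (Submodule.subset_span ⟨i, rfl⟩))
  obtain ⟨f, hfs, -, hli⟩ := Submodule.exists_fun_fin_finrank_span_eq K s
  have hr : Module.finrank K (Submodule.span K s) = r := by rw [hs, finrank_top, Module.finrank_pi, Fintype.card_fin]
  let f' : Fin r → Fin r → K := f ∘ finCongr hr.symm
  choose cols hcols using fun l => hfs (finCongr hr.symm l)
  refine ⟨cols, ?_⟩
  rw [← Matrix.isUnit_iff_isUnit_det, ← Matrix.linearIndependent_cols_iff_isUnit]
  have : (M.submatrix id cols).col = f' := funext fun j => hcols j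
  rw [this]
  exact hli.comp _ (finCongr hr.symm).injective

section Jet

variable {T : Type u} [CommRing T] [Algebra k T] {d : ℕ} (b : Module.Basis (Fin d) T (Ω[T⁄k]))
  {K : Type u} [Field K] (φ : T →+* K)

/-- Value and differential of a function at a point. -/
def jet (y : T) : Fin (d + 1) → K := Fin.cons (φ y) fun l => φ (b.repr (D k T y) l)

@[simp] theorem jet_zero_apply (y : T) : jet b φ y 0 = φ y := rfl

@[simp] theorem jet_succ_apply (y : T) (l : Fin d) : jet b φ y l.succ = φ (b.repr (D k T y) l) := by simp [jet]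

@[simp] theorem repr_smul_apply (α : k) (ω : Ω[T⁄k]) (l : Fin d) :
    φ (b.repr (α • ω) l) = φ (algebraMap k T α) * φ (b.repr ω l) := by
  rw [← algebraMap_smul T α ω, map_smul, Finsupp.smul_apply, smul_eq_mul, map_mul]

theorem jet_add (x y : T) : jet b φ (x + y) = jet b φ x + jet b φ y := by
  funext l; refine Fin.cases ?_ (fun l => ?_) l <;> simp

theorem jet_zero : jet b φ 0 = 0 := by
  funext l; refine Fin.cases ?_ (fun l => ?_) l <;> simp

theorem jet_sub (x y : T) : jet b φ (x - y) = jet b φ x - jet b φ y := by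
  rw [eq_sub_iff_add_eq, ← jet_add, sub_add_cancel]

theorem jet_sum {ι : Type} (s : Finset ι) (x : ι → T) : jet b φ (∑ i ∈ s, x i) = ∑ i ∈ s, jet b φ (x i) := by
  classical
  induction s using Finset.induction_on with
  | empty => simp [jet_zero]
  | insert a s ha ih => rw [Finset.sum_insert ha, Finset.sum_insert ha, jet_add, ih]

theorem jet_const_mul (α : k) (y : T) : jet b φ (algebraMap k T α * y) = φ (algebraMap k T α) • jet b φ y := by
  funext l; refine Fin.cases ?_ (fun l => ?_) l <;> simp

theorem jet_mul_of_zero (x : T) {y : T} (hy : φ y = 0) : jet b φ (x * y) = φ x • jet b φ y := by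
  funext l; refine Fin.cases ?_ (fun l => ?_) l <;> simp [hy]

/-- A functional killing all jets vanishes. -/
theorem eq_zero_of_jet {A : Type u} [CommRing A] [Algebra k A] [Algebra A T] [IsScalarTower k A T] (N : Submonoid A)
    [IsLocalization N T] (f : (Fin (d + 1) → K) →ₗ[K] K) (hk : ∀ y : A, f (jet b φ (algebraMap A T y)) = 0) :
    f = 0 := by
  classical
  have h00 : f (Pi.single 0 1) = 0 := by
    have := hk 1
    convert! this using 2
    funext j; refine Fin.cases ?_ (fun j => ?_) j <;> simp
  let W : Submodule T (Ω[T⁄k]) :=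
    { carrier := {ω | f (Fin.cons 0 fun l => φ (b.repr ω l)) = 0}
      zero_mem' := by
        show f _ = 0
        convert! map_zero f
        funext j; refine Fin.cases ?_ (fun j => ?_) j <;> simp
      add_mem' := fun {x y} hx hy => by
        show f _ = 0
        have hx : f _ = 0 := hx
        have hy : f _ = 0 := hy
        have e : (Fin.cons 0 fun l => φ (b.repr (x + y) l) : Fin (d + 1) → K) =
            (Fin.cons 0 fun l => φ (b.repr x l)) + Fin.cons 0 fun l => φ (b.repr y l) := by
          funext j; refine Fin.cases ?_ (fun j => ?_) j <;> simp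
        rw [e, map_add, hx, hy, add_zero]
      smul_mem' := fun t x hx => by
        show f _ = 0
        have hx : f _ = 0 := hx
        have e : (Fin.cons 0 fun l => φ (b.repr (t • x) l) : Fin (d + 1) → K) =
            φ t • Fin.cons 0 fun l => φ (b.repr x l) := by
          funext j; refine Fin.cases ?_ (fun j => ?_) j <;> simp
        rw [e, map_smul, hx, smul_zero] }
  have hW : W = ⊤ := by
    rw [eq_top_iff, ← span_range_map_derivation_of_isLocalization k A T N, Submodule.span_le]
    rintro _ ⟨y, rfl⟩
    show f _ = 0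
    rw [Function.comp_apply, map_D]
    have h := hk y
    have e : jet b φ (algebraMap A T y) = φ (algebraMap A T y) • Pi.single 0 1 +
        Fin.cons 0 fun l => φ (b.repr (D k T (algebraMap A T y)) l) := by
      funext j; refine Fin.cases ?_ (fun j => ?_) j <;> simp
    rwa [e, map_add, map_smul, h00, smul_zero, zero_add] at h
  refine LinearMap.pi_ext' fun j => LinearMap.ext_ring ?_
  show f (Pi.single j 1) = 0
  refine Fin.cases h00 (fun j => ?_) j
  have : f (Fin.cons 0 fun l => φ (b.repr (b j) l)) = 0 := (hW ▸ Submodule.mem_top : b j ∈ W)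
  convert! this using 2
  funext i; refine Fin.cases ?_ (fun i => ?_) i
  · simp [(Fin.succ_ne_zero j).symm]
  · simp [Pi.single_apply, Finsupp.single_apply, eq_comm, apply_ite φ]

end Jet

/-- Bad parameters over one coordinate chart. -/
theorem exists_bound_on_chart {T : Type u} [CommRing T] [Algebra k T] [Algebra.FiniteType k T] {m e : ℕ}
    (hd : ringKrullDim T ≤ e) (b : Module.Basis (Fin e) T (Ω[T⁄k])) (c : Fin m → T) (f₀ : T) :
    ∃ g : MvPolynomial (Fin m) k, g ≠ 0 ∧ ∀ (a : Fin m → k) {K : Type u} [Field K] (φ : T →+* K),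
      (∀ f : (Fin (e + 1) → K) →ₗ[K] K, (∀ i, f (jet b φ (c i)) = 0) → f = 0) →
      jet b φ (f₀ + ∑ i, algebraMap k T (a i) * c i) = 0 → eval a g = 0 := by
  classical
  let M : Matrix (Fin (e + 1)) (Fin m) T := Matrix.of fun l i =>
    (Fin.cons (c i) (fun l => b.repr (D k T (c i)) l) : Fin (e + 1) → T) l
  let v : Fin (e + 1) → T := Fin.cons f₀ fun l => b.repr (D k T f₀) l
  have H : ∀ cols : Fin (e + 1) → Fin m, ∃ g : MvPolynomial (Fin m) k, g ≠ 0 ∧
      ∀ (a : Fin m → k) {K : Type u} [Field K] (φ : T →+* K), φ ((M.submatrix id cols).det) ≠ 0 →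
      (∀ l, φ (v l + ∑ i, algebraMap k T (a i) * M l i) = 0) → eval a g = 0 := by
    intro cols
    let T' := Localization.Away (M.submatrix id cols).det
    haveI : Algebra.FiniteType k T' := Algebra.FiniteType.trans (S := T) inferInstance inferInstance
    obtain ⟨g, hg0, hg⟩ := exists_bound_linear (k := k) (T := T') (Nat.lt_succ_self e)
      ((ringKrullDim_away_le _).trans hd) (M.map (algebraMap T T')) (fun l => algebraMap T T' (v l)) cols (by
        have : ((M.map (algebraMap T T')).submatrix id cols).det = algebraMap T T' (M.submatrix id cols).det :=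
          (RingHom.map_det (algebraMap T T') (M.submatrix id cols)).symm
        rw [this]; exact IsLocalization.Away.algebraMap_isUnit _)
    refine ⟨g, hg0, fun a K _ φ hdet hφ => hg a (IsLocalization.Away.lift _ (g := φ) (isUnit_iff_ne_zero.2 hdet))
      fun l => ?_⟩
    simp only [map_add, map_sum, map_mul, Matrix.map_apply, IsScalarTower.algebraMap_apply k T T',
      IsLocalization.Away.lift_eq]
    simpa [map_add, map_sum, map_mul] using hφ l
  choose g hg0 hg using H
  refine ⟨∏ cols, g cols, Finset.prod_ne_zero_iff.2 fun cols _ => hg0 cols, fun a K _ φ hsurj hj => ?_⟩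
  obtain ⟨cols, hcols⟩ := exists_minor (M.map φ) fun f hf => hsurj f fun i => by
    rw [← hf i]
    congr 1
    funext l
    refine Fin.cases ?_ (fun l => ?_) l <;> simp [M]
  rw [map_prod, Finset.prod_eq_zero_iff]
  refine ⟨cols, Finset.mem_univ _, hg cols a φ ?_ fun l => ?_⟩
  · rw [RingHom.map_det]
    exact hcols.ne_zero
  · have := congrFun hj l
    refine Fin.cases (fun this => ?_) (fun l this => ?_) l this
    · simpa [M, v] using this
    · simpa [M, v, map_sum, Finsupp.coe_finsetSum, Finset.sum_apply] using this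

theorem ringKrullDim_le_relDim (n : ℕ) {A : Type u} [CommRing A] [Algebra k A]
    [Algebra.IsStandardSmoothOfRelativeDimension n k A] : ringKrullDim A ≤ n := by
  haveI := Algebra.IsStandardSmoothOfRelativeDimension.isStandardSmooth n (R := k) (S := A)
  refine iSup_le fun l => ?_
  obtain ⟨P, hP, hPl⟩ := Ideal.exists_minimalPrimes_le (show (⊥ : Ideal A) ≤ l.head.asIdeal from bot_le)
  have h := (LocalDimBC.localDim_spec (k := k) l.head).2 P hP hPl
  rw [LocalDimBC.localDim_of_isStandardSmooth n (K := k)] at h
  refine le_trans ?_ h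
  rw [ringKrullDim_quotient]
  exact Order.LTSeries.length_le_krullDim
    (LTSeries.mk l.length (fun i => (⟨l i, hPl.trans (l.head_le i)⟩ : PrimeSpectrum.zeroLocus (P : Set A)))
      fun i j hij => l.strictMono hij)

/-- Bertini for a family of functions separating tangent vectors. -/
theorem exists_bound_jets [IsAlgClosed k] {A : Type u} [CommRing A] [Algebra k A] [Algebra.FiniteType k A]
    [Algebra.FormallySmooth k A] {m : ℕ} (c : Fin m → A) (f₀ : A)
    (hjet : ∀ (p : Ideal A) [p.IsMaximal] (l : A), ∃ a : Fin m → k,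
      algebraMap A (Localization.AtPrime p) (∑ i, algebraMap k A (a i) * c i - l) ∈
        maximalIdeal (Localization.AtPrime p) ^ 2) :
    ∃ g : MvPolynomial (Fin m) k, g ≠ 0 ∧ ∀ a : Fin m → k, eval a g ≠ 0 →
      Algebra.FormallySmooth k (A ⧸ Ideal.span {f₀ + ∑ i, algebraMap k A (a i) * c i}) := by
  classical
  haveI : Algebra.FinitePresentation k A := Algebra.FinitePresentation.of_finiteType.1 inferInstance
  haveI : IsNoetherianRing A := Algebra.FiniteType.isNoetherianRing k A
  let 𝒢 : Set A := {G | ∃ d : ℕ, Algebra.IsStandardSmoothOfRelativeDimension d k (Localization.Away G) ∧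
    Nonempty (Module.Basis (Fin d) (Localization.Away G) (Ω[Localization.Away G⁄k]))}
  obtain ⟨s, hs, hspan⟩ := (Submodule.fg_span_iff_fg_span_finset_subset 𝒢).1
    (IsNoetherian.noetherian (Submodule.span A 𝒢))
  have hcover : ∀ (p : Ideal A) [p.IsMaximal], ∃ G ∈ s, G ∉ p := by
    intro p _
    haveI : Algebra.FormallyEtale A (Localization.AtPrime p) := .of_isLocalization p.primeCompl
    haveI : Algebra.IsSmoothAt k p := Algebra.FormallySmooth.comp k A _
    obtain ⟨G, hG, hstd⟩ := Algebra.IsSmoothAt.exists_notMem_isStandardSmooth k p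
    by_contra hh
    push Not at hh
    refine hG ((Submodule.span_le.2 hh) (hspan ▸ Submodule.subset_span ?_))
    haveI := hstd
    haveI : Nontrivial (Localization.Away G) := not_subsingleton_iff_nontrivial.1 fun h => by
      obtain ⟨m, hm⟩ := (IsLocalization.subsingleton_iff (M := Submonoid.powers G) (S := Localization.Away G)).1 h
      have hm : G ^ m = 0 := hm
      exact hG (Ideal.IsPrime.mem_of_pow_mem inferInstance m (hm.symm ▸ p.zero_mem))
    obtain ⟨ι, σ, _, hfin, ⟨P⟩⟩ := Algebra.IsStandardSmooth.out (R := k) (S := Localization.Away G)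
    haveI : Fintype ↑(Set.range P.map)ᶜ := Fintype.ofFinite _
    refine ⟨Fintype.card ↑(Set.range P.map)ᶜ, ?_, ⟨P.basisKaehler.reindex (Fintype.equivFin _)⟩⟩
    rw [Algebra.IsStandardSmoothOfRelativeDimension.iff_of_isStandardSmooth, rank_eq_card_basis P.basisKaehler]
  have H : ∀ G : {G // G ∈ s}, ∃ g : MvPolynomial (Fin m) k, g ≠ 0 ∧ ∀ a : Fin m → k, eval a g ≠ 0 →
      ∀ (p : Ideal A) [p.IsMaximal], G.1 ∉ p → f₀ + ∑ i, algebraMap k A (a i) * c i ∈ p →
        algebraMap A (Localization.AtPrime p) (f₀ + ∑ i, algebraMap k A (a i) * c i) ∉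
          maximalIdeal (Localization.AtPrime p) ^ 2 := by
    rintro ⟨G, hGs⟩
    obtain ⟨d, hd, ⟨b⟩⟩ := hs hGs
    haveI := hd
    let T := Localization.Away G
    haveI : Algebra.FiniteType k T := Algebra.FiniteType.trans (S := A) inferInstance inferInstance
    obtain ⟨g, hg0, hg⟩ := exists_bound_on_chart (ringKrullDim_le_relDim (k := k) d (A := T)) b
      (fun i => algebraMap A T (c i)) (algebraMap A T f₀)
    refine ⟨g, hg0, fun a ha p _ hGp hFp hF2 => ha ?_⟩
    let φ : T →+* p.ResidueField := IsLocalization.Away.lift G (g := algebraMap A p.ResidueField)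
      (isUnit_iff_ne_zero.2 fun h => hGp (p.algebraMap_residueField_eq_zero.1 h))
    have hφ : ∀ y, φ (algebraMap A T y) = algebraMap A p.ResidueField y := fun y => IsLocalization.Away.lift_eq G _ y
    have hφ0 : ∀ y ∈ p, φ (algebraMap A T y) = 0 := fun y hy => by
      rw [hφ]; exact p.algebraMap_residueField_eq_zero.2 hy
    have jsq : ∀ y, algebraMap A (Localization.AtPrime p) y ∈ maximalIdeal (Localization.AtPrime p) ^ 2 →
        jet b φ (algebraMap A T y) = 0 := by
      intro y hy
      rw [← Localization.AtPrime.map_eq_maximalIdeal, ← Ideal.map_pow,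
        IsLocalization.mem_map_algebraMap_iff p.primeCompl] at hy
      obtain ⟨⟨⟨z, hz⟩, t⟩, hzt⟩ := hy
      rw [← map_mul] at hzt
      obtain ⟨u, hu⟩ := (IsLocalization.eq_iff_exists p.primeCompl _).1 hzt
      have hz2 : (u : A) * z ∈ p ^ 2 := Ideal.mul_mem_left _ _ hz
      have hzero : ∀ w ∈ p ^ 2, jet b φ (algebraMap A T w) = 0 := fun w hw => by
        rw [pow_two] at hw
        induction hw using Submodule.mul_induction_on' with
        | mem_mul_mem x hx z hz => rw [map_mul, jet_mul_of_zero b φ _ (hφ0 z hz), hφ0 x hx, zero_smul]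
        | add x _ z _ hx hz => rw [map_add, jet_add, hx, hz, add_zero]
      have key : jet b φ (algebraMap A T ((u : A) * t) * algebraMap A T y) = 0 := by
        rw [← map_mul, show (u : A) * t * y = u * (y * t) by ring, hu]
        exact hzero _ hz2
      have hne : φ (algebraMap A T ((u : A) * t)) ≠ 0 := fun h => by
        rw [hφ, p.algebraMap_residueField_eq_zero] at h
        exact (Ideal.IsPrime.mul_notMem inferInstance u.2 t.2) h
      have hy0 : φ (algebraMap A T y) = 0 := by
        have := congrFun key 0
        rw [jet_zero_apply, map_mul, Pi.zero_apply, mul_eq_zero] at this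
        exact this.resolve_left hne
      rw [jet_mul_of_zero b φ _ hy0, smul_eq_zero] at key
      exact key.resolve_left hne
    refine hg a φ (fun f hf => eq_zero_of_jet b φ (Submonoid.powers G) f fun l => ?_) ?_
    · obtain ⟨α, hα⟩ := hjet p l
      have h0 := jsq _ hα
      rw [map_sub, map_sum, jet_sub, jet_sum, sub_eq_zero] at h0
      rw [← h0, map_sum]
      refine Finset.sum_eq_zero fun i _ => ?_
      rw [map_mul, ← IsScalarTower.algebraMap_apply, jet_const_mul, map_smul, hf i, smul_zero]
    · have := jsq _ hF2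
      simpa only [map_add, map_sum, map_mul, ← IsScalarTower.algebraMap_apply] using this
  choose g hg0 hg using H
  refine ⟨∏ G, g G, Finset.prod_ne_zero_iff.2 fun G _ => hg0 G, fun a ha => ?_⟩
  rw [map_prod, Finset.prod_ne_zero_iff] at ha
  let F := f₀ + ∑ i, algebraMap k A (a i) * c i
  let I := Ideal.span ({F} : Set A)
  haveI : Algebra.FiniteType k (A ⧸ I) :=
    Algebra.FiniteType.of_surjective (Ideal.Quotient.mkₐ k I) Ideal.Quotient.mk_surjective
  refine CotT.formallySmooth_of_maximal fun q _ => ?_
  haveI : (q.comap (Ideal.Quotient.mk I)).IsMaximal := Ideal.comap_isMaximal_of_surjective _ Ideal.Quotient.mk_surjective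
  let p := q.comap (Ideal.Quotient.mk I)
  have hFp : F ∈ p := by
    show Ideal.Quotient.mk I F ∈ q
    rw [Ideal.Quotient.eq_zero_iff_mem.2 (Ideal.mem_span_singleton_self F)]
    exact q.zero_mem
  obtain ⟨G, hGs, hGp⟩ := hcover p
  have hF2 := hg ⟨G, hGs⟩ a (ha _ (Finset.mem_univ _)) p hGp hFp
  haveI : IsRegularLocalRing (Localization.AtPrime p) := CotT.regular_of_formallySmooth (k := k) p
  have hF1 : algebraMap A (Localization.AtPrime p) F ∈ maximalIdeal (Localization.AtPrime p) :=
    (IsLocalization.AtPrime.to_map_mem_maximal_iff _ p F).2 hFp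
  obtain ⟨hreg, -⟩ := SerreReg.isRegularLocalRing_quot hF1 hF2
  obtain ⟨e⟩ := CIBertini.nonempty_localQuot I q
  haveI := hreg
  exact IsRegularLocalRing.of_ringEquiv
    ((Ideal.quotEquivOfEq (by rw [Ideal.map_span, Set.image_singleton])).trans e.symm :
      Localization.AtPrime p ⧸ Ideal.span {algebraMap A (Localization.AtPrime p) F} ≃+* Localization.AtPrime q)

end Groth.Agent.HypSec
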