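import Groth.Agent.HypSec.Section
import Groth.Agent.LocalDimBC.Smooth
import Groth.Agent.SMT.DetRing
import Mathlib.RingTheory.LocalRing.Module

/-! Coordinate charts of the smooth locus of an equidimensional embedded affine variety. -/

set_option autoImplicit false

noncomputable section

namespace Groth.Agent.HypSec

open KaehlerDifferential

universe u

variable {k A : Type u} [Field k] [CommRing A] [Algebra k A] {n r : ℕ}

/-- On every `D(t) ⊆ D(G)` some `r` of the coordinates form a coordinate system. -/
def IsChart (k : Type u) [Field k] {A : Type u} [CommRing A] [Algebra k A] {n : ℕ} (x : Fin n → A) (r : ℕ) (G : A) :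
    Prop :=
  ∃ cols : Fin r → Fin n, Function.Injective cols ∧ ∀ t, G ∣ t → Algebra.FormallySmooth k (Localization.Away t) ∧
    ∃ b : Module.Basis (Fin r) (Localization.Away t) (Ω[Localization.Away t⁄k]),
      ∀ l, b l = D k _ (algebraMap A (Localization.Away t) (x (cols l)))

theorem ringKrullDim_le_of_components (hdim : ∀ P ∈ minimalPrimes A, ringKrullDim (A ⧸ P) = r) :
    ringKrullDim A ≤ r := by
  refine iSup_le fun l => ?_
  obtain ⟨P, hP, hPl⟩ := Ideal.exists_minimalPrimes_le (show (⊥ : Ideal A) ≤ l.head.asIdeal from bot_le)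
  rw [← hdim P hP, ringKrullDim_quotient]
  exact Order.LTSeries.length_le_krullDim
    (LTSeries.mk l.length (fun i => (⟨l i, hPl.trans (l.head_le i)⟩ : PrimeSpectrum.zeroLocus (P : Set A)))
      fun i j hij => l.strictMono hij)

theorem ringKrullDim_away_le (G : A) : ringKrullDim (Localization.Away G) ≤ ringKrullDim A := by
  refine Order.krullDim_le_of_strictMono (PrimeSpectrum.comap (algebraMap A (Localization.Away G))) fun p q h => ?_
  refine lt_of_le_of_ne (Ideal.comap_mono h.le) fun e => h.ne ?_
  exact PrimeSpectrum.localization_comap_injective _ (Submonoid.powers G) e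

theorem relDim_eq [Algebra.FiniteType k A] (hdim : ∀ P ∈ minimalPrimes A, ringKrullDim (A ⧸ P) = r) (G : A)
    [Nontrivial (Localization.Away G)] (d : ℕ)
    [Algebra.IsStandardSmoothOfRelativeDimension d k (Localization.Away G)] : d = r := by
  let T := Localization.Away G
  haveI : Algebra.FiniteType k T := Algebra.FiniteType.trans (S := A) inferInstance inferInstance
  obtain ⟨m, hm⟩ := Ideal.exists_maximal T
  obtain ⟨P, hP, -⟩ := Ideal.exists_minimalPrimes_le (show (⊥ : Ideal T) ≤ m from bot_le)
  haveI := hP.1.1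
  have hP0 : P.under A ∈ minimalPrimes A := by
    have h : P ∈ (Ideal.map (algebraMap A T) (⊥ : Ideal A)).minimalPrimes := by rw [Ideal.map_bot]; exact hP
    rw [IsLocalization.minimalPrimes_map (Submonoid.powers G)] at h
    exact h
  haveI := hP0.1.1
  let χ : (A ⧸ P.under A) →ₐ[k] T ⧸ P := Ideal.quotientMapₐ P (IsScalarTower.toAlgHom k A T) le_rfl
  have hG : IsUnit (Ideal.Quotient.mk P (algebraMap A T G)) :=
    (IsLocalization.Away.algebraMap_isUnit G).map _
  have hA := SMT.ringKrullDim_eq_of_away (K := k) χ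
    (Ideal.quotientMap_injective (I := P) (f := algebraMap A T))
    (P := Ideal.Quotient.mk P (algebraMap A T G)) (s := Ideal.Quotient.mk _ G) rfl hG.ne_zero fun z => by
      obtain ⟨z, rfl⟩ := Ideal.Quotient.mk_surjective z
      obtain ⟨m, y, hy⟩ := IsLocalization.Away.surj G z
      refine ⟨m, Ideal.Quotient.mk _ y, ?_⟩
      show Ideal.Quotient.mk P (algebraMap A T y) = _
      rw [← hy, map_mul, map_pow, mul_comm]
  rw [hdim _ hP0] at hA
  obtain ⟨⟨P', hP', hle, h1⟩, h2⟩ := LocalDimBC.localDim_spec (k := k) (⟨P, inferInstance⟩ : PrimeSpectrum T)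
  have hPP : P' = P := le_antisymm hle (hP.2 ⟨hP'.1.1, bot_le⟩ hle)
  have h2' := h2 P hP le_rfl
  rw [LocalDimBC.localDim_of_isStandardSmooth d (K := k)] at h1 h2'
  rw [hPP, hA] at h1
  rw [hA] at h2'
  exact_mod_cast le_antisymm h1 h2'

/-- Smooth points lie in charts. -/
theorem exists_chart [Algebra.FiniteType k A] (x : Fin n → A)
    (hx : Function.Surjective (MvPolynomial.aeval x : MvPolynomial (Fin n) k →ₐ[k] A))
    (hdim : ∀ P ∈ minimalPrimes A, ringKrullDim (A ⧸ P) = r) (p : Ideal A) [p.IsPrime] (f : A) (hf : f ∉ p)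
    [Algebra.FormallySmooth k (Localization.Away f)] : ∃ G, G ∉ p ∧ IsChart k x r G := by
  classical
  haveI : Algebra.FinitePresentation k A := Algebra.FinitePresentation.of_finiteType.mp inferInstance
  haveI : IsNoetherianRing A := Algebra.FiniteType.isNoetherianRing k A
  have hfl : ↑(PrimeSpectrum.basicOpen f) ⊆ Algebra.smoothLocus k A :=
    Algebra.basicOpen_subset_smoothLocus_iff.2 inferInstance
  haveI hsm : Algebra.IsSmoothAt k p := hfl (show (⟨p, inferInstance⟩ : PrimeSpectrum A) ∈ PrimeSpectrum.basicOpen f from hf)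
  let Ap := Localization.AtPrime p
  haveI : Algebra.FormallySmooth k Ap := hsm
  haveI : IsNoetherianRing Ap := IsLocalization.isNoetherianRing p.primeCompl Ap inferInstance
  haveI : Algebra.EssFiniteType A Ap := Algebra.EssFiniteType.of_isLocalization _ p.primeCompl
  haveI : Algebra.EssFiniteType k Ap := Algebra.EssFiniteType.comp k A Ap
  haveI : Module.FinitePresentation Ap (Ω[Ap⁄k]) := Module.finitePresentation_of_finite _ _
  let v : ULift.{u} (Fin n) → Ω[Ap⁄k] := fun i => map k k A Ap (D k A (x i.down))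
  have hspanA : Submodule.span A (Set.range fun i => D k A (x i)) = ⊤ := by
    rw [eq_top_iff, ← span_range_derivation k A, Submodule.span_le]
    rintro _ ⟨a, rfl⟩
    obtain ⟨P, rfl⟩ := hx a
    rw [SetLike.mem_coe]
    induction P using MvPolynomial.induction_on with
    | C c => simp
    | add p q hp hq => rw [map_add, map_add]; exact Submodule.add_mem _ hp hq
    | mul_X q i hq =>
      rw [map_mul, MvPolynomial.aeval_X, Derivation.leibniz]
      exact Submodule.add_mem _ (Submodule.smul_mem _ _ (Submodule.subset_span ⟨i, rfl⟩))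
        (Submodule.smul_mem _ _ hq)
  have hspan : Submodule.span Ap (Set.range v) = ⊤ := by
    have := span_eq_top_of_isLocalizedModule Ap p.primeCompl (map k k A Ap) (v := Set.range fun i => D k A (x i)) hspanA
    rw [← this, ← Set.range_comp]
    congr 1
    exact Equiv.ulift.surjective.range_comp (fun i => map k k A Ap (D k A (x i)))
  obtain ⟨κ, a, b, hb⟩ := Module.exists_basis_of_span_of_flat v hspan
  haveI : Finite κ := Module.Finite.finite_basis b
  let e : (κ →₀ A) →ₗ[A] Ω[A⁄k] := Finsupp.linearCombination A fun i : κ => D k A (x (a i).down)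
  let l₁ : (κ →₀ A) →ₗ[A] (κ →₀ Ap) := Finsupp.mapRange.linearMap (Algebra.linearMap A Ap)
  let l₂ : Ω[A⁄k] →ₗ[A] Ω[Ap⁄k] := map k k A Ap
  let eₚ : (κ →₀ Ap) →ₗ[Ap] Ω[Ap⁄k] := IsLocalizedModule.mapExtendScalars p.primeCompl l₁ l₂ Ap e
  have heq : eₚ = b.repr.symm := by
    ext i
    trans IsLocalizedModule.map p.primeCompl l₁ l₂ e <| l₁ <| Finsupp.single i 1
    · simp [eₚ, -IsLocalizedModule.map_apply, l₁]
    · simp [l₂, e, hb, v]
  have heₚ : Function.Bijective eₚ := heq ▸ b.repr.symm.bijective
  haveI : Module.FinitePresentation A (Ω[A⁄k]) := Module.finitePresentation_of_finite _ _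
  obtain ⟨g, hg, hbij⟩ := exists_bijective_map_powers p.primeCompl l₁ l₂ e heₚ
  let G := f * g
  have hG : G ∉ p := Ideal.IsPrime.mul_notMem ‹_› hf hg
  have hall : ∀ t, G ∣ t → Algebra.FormallySmooth k (Localization.Away t) ∧
      ∃ bt : Module.Basis κ (Localization.Away t) (Ω[Localization.Away t⁄k]),
        ∀ i, bt i = D k _ (algebraMap A (Localization.Away t) (x (a i).down)) := by
    intro t ht
    refine ⟨Algebra.basicOpen_subset_smoothLocus_iff.1 (Set.Subset.trans ?_ hfl), ?_⟩
    · intro q hq
      obtain ⟨c, rfl⟩ := dvd_trans (dvd_mul_right f g) ht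
      exact fun hfq => hq (Ideal.mul_mem_right c _ hfq)
    · let l₁t : (κ →₀ A) →ₗ[A] (κ →₀ Localization.Away t) := Finsupp.mapRange.linearMap (Algebra.linearMap A _)
      let l₂t : Ω[A⁄k] →ₗ[A] Ω[Localization.Away t⁄k] := map k k A (Localization.Away t)
      have h := hbij t (dvd_trans (dvd_mul_left g f) ht)
      rw [← IsLocalizedModule.map_bijective_iff_localizedModuleMap_bijective l₁t l₂t] at h
      let et : (κ →₀ Localization.Away t) →ₗ[Localization.Away t] Ω[Localization.Away t⁄k] :=
        IsLocalizedModule.mapExtendScalars (Submonoid.powers t) l₁t l₂t (Localization.Away t) e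
      refine ⟨.ofRepr (LinearEquiv.ofBijective et h).symm, fun i => ?_⟩
      simp +zetaDelta [IsLocalizedModule.map_linearCombination]
  haveI : Fintype κ := Fintype.ofFinite κ
  obtain ⟨hfs, bG, hbG⟩ := hall G dvd_rfl
  haveI : Nontrivial (Localization.Away G) := by
    refine not_subsingleton_iff_nontrivial.1 fun h => ?_
    obtain ⟨m, hm⟩ := (IsLocalization.subsingleton_iff (M := Submonoid.powers G) (S := Localization.Away G)).1 h
    have hm : G ^ m = 0 := hm
    exact hG (‹p.IsPrime›.mem_of_pow_mem m (hm.symm ▸ p.zero_mem))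
  haveI := hfs
  haveI : Algebra.FiniteType k (Localization.Away G) := Algebra.FiniteType.trans (S := A) inferInstance inferInstance
  haveI : Algebra.FinitePresentation k (Localization.Away G) := Algebra.FinitePresentation.of_finiteType.mp inferInstance
  haveI : Algebra.IsStandardSmooth k (Localization.Away G) := .of_basis_kaehlerDifferential bG (by
    rintro _ ⟨i, rfl⟩; exact ⟨_, (hbG i).symm⟩)
  haveI : Algebra.IsStandardSmoothOfRelativeDimension (Fintype.card κ) k (Localization.Away G) := by
    rw [Algebra.IsStandardSmoothOfRelativeDimension.iff_of_isStandardSmooth, rank_eq_card_basis bG]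
  have hr : Fintype.card κ = r := relDim_eq (k := k) hdim G (Fintype.card κ)
  let ε : Fin r ≃ κ := (finCongr hr.symm).trans (Fintype.equivFin κ).symm
  have hinj : Function.Injective a := fun i j h => b.injective (by rw [hb, hb, h])
  refine ⟨G, hG, fun l => (a (ε l)).down, fun i j h => ε.injective (hinj (ULift.ext _ _ h)), fun t ht => ?_⟩
  obtain ⟨h1, bt, hbt⟩ := hall t ht
  exact ⟨h1, bt.reindex ε.symm, fun l => by rw [Module.Basis.reindex_apply, Equiv.symm_symm, hbt]⟩

end Groth.Agent.HypSec
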