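import Groth.Agent.CIBertini.Generic

/-! The coefficient vectors of hyperplanes tangent to a chart lie on a hypersurface. -/

set_option autoImplicit false

noncomputable section

namespace Groth.Agent.HypSec

open MvPolynomial

universe u

variable {k T : Type u} [Field k] [CommRing T] [Algebra k T] {n d : ℕ}

/-- `M` holds the coordinates of `dx_i` in the basis `dx_(cols l)`. -/
theorem exists_bound_chart [Algebra.FiniteType k T] (hd : ringKrullDim T ≤ d) (x : Fin n → T)
    (M : Matrix (Fin d) (Fin n) T) (cols : Fin d → Fin n) (hcols : Function.Injective cols)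
    (hM : ∀ l m, M l (cols m) = if l = m then 1 else 0) :
    ∃ g : MvPolynomial (Fin (n + 1)) k, g ≠ 0 ∧ ∀ (a : Fin (n + 1) → k) {K : Type u} [Field K] (φ : T →+* K),
      φ (algebraMap k T (a 0) + ∑ i, algebraMap k T (a i.succ) * x i) = 0 →
      (∀ l, φ (∑ i, algebraMap k T (a i.succ) * M l i) = 0) → eval a g = 0 := by
  classical
  haveI : IsNoetherianRing T := Algebra.FiniteType.isNoetherianRing k T
  let S : Finset (Fin n) := Finset.univ.image cols
  let J := {i : Fin n // i ∉ S}
  let B := MvPolynomial J T
  haveI : Algebra.FiniteType k B := Algebra.FiniteType.trans (S := T) inferInstance inferInstance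
  let aS : Fin d → B := fun l => -∑ j : J, C (M l j.1) * X j
  let aB : Fin n → B := fun i => if h : ∃ l, cols l = i then aS h.choose else
    X ⟨i, fun hi => h (by simpa [S] using hi)⟩
  let a0 : B := -∑ i, C (x i) * aB i
  let ψ : MvPolynomial (Fin (n + 1)) k →ₐ[k] B := aeval (Fin.cons a0 aB)
  have hdn : d ≤ n := by simpa using Fintype.card_le_of_injective cols hcols
  have hcard : Fintype.card J = n - d := by
    rw [Fintype.card_subtype_compl, Fintype.card_coe, Fintype.card_fin,
      Finset.card_image_of_injective _ hcols, Finset.card_univ, Fintype.card_fin]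
  have hnot : ¬ Function.Injective ψ := by
    intro hinj
    have h := CIBertini.ringKrullDim_le_of_injective ψ hinj
    rw [MvPolynomial.ringKrullDim_of_isNoetherianRing, MvPolynomial.ringKrullDim_of_isNoetherianRing,
      ringKrullDim_eq_zero_of_field, zero_add, Nat.card_eq_fintype_card, Fintype.card_fin,
      Nat.card_eq_fintype_card, hcard] at h
    have h' : ((n + 1 : ℕ) : WithBot ℕ∞) ≤ ((d + (n - d) : ℕ) : WithBot ℕ∞) :=
      h.trans (by push_cast; exact add_le_add hd le_rfl)
    have h'' : n + 1 ≤ d + (n - d) := by exact_mod_cast h'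
    omega
  obtain ⟨g, hg, hg0⟩ : ∃ g, ψ g = 0 ∧ g ≠ 0 := by
    by_contra hh
    push Not at hh
    exact hnot ((injective_iff_map_eq_zero ψ).2 hh)
  refine ⟨g, hg0, fun a K _ φ h0 hdh => ?_⟩
  let v : Fin n → K := fun i => φ (algebraMap k T (a i.succ))
  let χ : B →+* K := eval₂Hom φ fun j => v j.1
  have haB : ∀ i, χ (aB i) = v i := by
    intro i
    by_cases h : ∃ l, cols l = i
    · obtain ⟨l, rfl⟩ := h
      have hl : (⟨l, rfl⟩ : ∃ m, cols m = cols l).choose = l :=
        hcols (⟨l, rfl⟩ : ∃ m, cols m = cols l).choose_spec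
      simp only [aB, dif_pos (⟨l, rfl⟩ : ∃ m, cols m = cols l), hl]
      have e := hdh l
      rw [map_sum, ← Finset.sum_add_sum_compl S, Finset.sum_image hcols.injOn,
        Finset.sum_eq_single_of_mem l (Finset.mem_univ _) (fun m _ hm => by
          rw [hM, if_neg hm.symm, mul_zero, map_zero]), hM, if_pos rfl, mul_one,
        Finset.sum_subtype Sᶜ (fun j => Finset.mem_compl) (fun j => φ (algebraMap k T (a j.succ) * M l j))] at e
      rw [show χ (aS l) = -∑ j : J, χ (C (M l j.1) * X j) by simp [aS, map_sum]]
      rw [eq_comm, ← add_eq_zero_iff_eq_neg]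
      refine Eq.trans (congrArg₂ (· + ·) rfl (Finset.sum_congr rfl fun j _ => ?_)) e
      rw [map_mul χ, map_mul φ, show χ (C (M l j.1)) = φ (M l j.1) from eval₂Hom_C _ _ _,
        show χ (X j) = φ (algebraMap k T (a j.1.succ)) from eval₂Hom_X' _ _ _]
      ring
    · simp only [aB, dif_neg h]
      exact eval₂Hom_X' _ _ _
  have hcomp : ∀ i : Fin (n + 1), χ (Fin.cases a0 aB i) = φ (algebraMap k T (a i)) := by
    intro i
    refine Fin.cases ?_ (fun j => ?_) i
    · rw [map_add, add_eq_zero_iff_eq_neg] at h0
      show χ a0 = _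
      rw [h0, map_sum, map_neg, map_sum]
      refine congrArg _ (Finset.sum_congr rfl fun j _ => ?_)
      rw [map_mul, haB, map_mul, show χ (C (x j)) = φ (x j) from eval₂Hom_C _ _ _, mul_comm]
    · exact haB j
  have hk : ∀ p : MvPolynomial (Fin (n + 1)) k, χ (ψ p) = φ (algebraMap k T (eval a p)) := by
    intro p
    induction p using MvPolynomial.induction_on with
    | C c =>
      simp only [ψ, aeval_C, eval_C, IsScalarTower.algebraMap_apply k T B, MvPolynomial.algebraMap_eq]
      exact eval₂Hom_C _ _ _
    | add p q hp hq => simp [map_add, hp, hq]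
    | mul_X p i hp =>
      rw [map_mul, map_mul, hp, aeval_X, map_mul, map_mul, map_mul, eval_X]
      exact congrArg _ (hcomp i)
  have := hk g
  rw [hg, map_zero] at this
  exact (map_eq_zero (φ.comp (algebraMap k T))).1 this.symm

end Groth.Agent.HypSec
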