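import Groth.Agent.HypSec.LinFamily
import Groth.Agent.ZeroSch.Over
import Groth.Agent.QC.Localisation

/-! Bertini for a linear system separating tangent vectors. -/

set_option autoImplicit false
set_option backward.isDefEq.respectTransparency false

noncomputable section

namespace Groth.Agent.HypSec

open CategoryTheory AlgebraicGeometry TopologicalSpace Opposite ZeroSch
open Groth.Agent.QC (res resO res_res res_smul resO_resO res_self resO_self app_res)
open TMul (IsGen val res_val)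
open Groth.Agent.WeakAssLib (mgerm mgerm_smul mgerm_res)

universe u

variable {k : Type u} [Field k] [IsAlgClosed k] {Y : Scheme.{u}} [Y.Over (Spec (CommRingCat.of k))]
  [Smooth (Y ↘ Spec (CommRingCat.of k))] {L : Y.Modules}

theorem exists_bound_affine_jets (hL : PicF.IsInvertible L) {U : Y.Opens} (hU : IsAffineOpen U) {e : Γ(L, U)}
    (he : IsGen e) {m : ℕ} (s : Fin m → (Coh.structureModule Y ⟶ L)) (f : Coh.structureModule Y ⟶ L)
    (hjet : ∀ p : Y, IsClosed ({p} : Set Y) → ∀ l : ↥(L.presheaf.stalk p), ∃ c : Fin m → k,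
      (L.presheaf.germ ⊤ p trivial)
          (PicF2.secVal L (∑ i : Fin m, Formal.smulMod k (Coh.structureModule Y) (c i) ≫ s i) ⊤) - l ∈
        (IsLocalRing.maximalIdeal ↥(Y.presheaf.stalk p)) ^ 2 •
          (⊤ : Submodule ↥(Y.presheaf.stalk p) ↥(L.presheaf.stalk p))) :
    ∃ g : MvPolynomial (Fin m) k, g ≠ 0 ∧ ∀ a : Fin m → k, MvPolynomial.eval a g ≠ 0 →
      ((Ideal.Quotient.mk ((PicF2.zeroScheme L
        (f + ∑ i : Fin m, Formal.smulMod k (Coh.structureModule Y) (a i) ≫ s i)).ideal ⟨U, hU⟩)).comp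
          (cst k U)).Smooth := by
  haveI : JacobsonSpace Y := LocallyOfFiniteType.jacobsonSpace (Y ↘ Spec (CommRingCat.of k))
  letI : Algebra k Γ(Y, U) := (cst k U).toAlgebra
  haveI : Algebra.Smooth k Γ(Y, U) := RingHom.smooth_algebraMap.1 (formallySmooth_cst hU)
  have hb : Function.Bijective fun t : Γ(Y, U) => t • e := by simpa only [res_self] using he U le_rfl
  choose co hco using fun t : Γ(L, U) => hb.2 t
  replace hco : ∀ t, co t • e = t := hco
  have hcomb : ∀ (a : Fin m → k) (g₀ : Coh.structureModule Y ⟶ L),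
      val (g₀ + ∑ i, Formal.smulMod k (Coh.structureModule Y) (a i) ≫ s i) U =
        (co (val g₀ U) + ∑ i, algebraMap k Γ(Y, U) (a i) * co (val (s i) U)) • e := fun a g₀ => by
    rw [val_comb, add_smul, Finset.sum_smul, hco]
    congr 1
    refine Finset.sum_congr rfl fun i _ => ?_
    rw [mul_smul, hco]
    rfl
  have hjet' : ∀ (p : Ideal Γ(Y, U)) [p.IsMaximal] (l : Γ(Y, U)), ∃ a : Fin m → k,
      algebraMap Γ(Y, U) (Localization.AtPrime p) (∑ i, algebraMap k Γ(Y, U) (a i) * co (val (s i) U) - l) ∈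
        IsLocalRing.maximalIdeal (Localization.AtPrime p) ^ 2 := by
    intro p _ l
    let pt : PrimeSpectrum Γ(Y, U) := ⟨p, inferInstance⟩
    have hy : hU.fromSpec pt ∈ U := hU.range_fromSpec.le ⟨pt, rfl⟩
    have hcl : IsClosed ({hU.fromSpec pt} : Set Y) := by
      apply isClosed_singleton_of_isLocallyClosed_singleton
      have hpt : IsClosed ({pt} : Set (PrimeSpectrum Γ(Y, U))) := pt.isClosed_singleton_iff_isMaximal.2 ‹_›
      have := hpt.isLocallyClosed.image hU.fromSpec.isOpenEmbedding.isInducing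
        hU.fromSpec.isOpenEmbedding.isOpen_range.isLocallyClosed
      rwa [Set.image_singleton] at this
    obtain ⟨a, ha⟩ := hjet _ hcl (mgerm L hy (l • e))
    refine ⟨a, ?_⟩
    letI := Y.presheaf.algebra_section_stalk ⟨hU.fromSpec pt, hy⟩
    haveI : IsLocalization.AtPrime (Y.presheaf.stalk (hU.fromSpec pt)) p := hU.isLocalization_stalk' pt hy
    have hval : (L.presheaf.germ ⊤ (hU.fromSpec pt) trivial)
        (PicF2.secVal L (∑ i : Fin m, Formal.smulMod k (Coh.structureModule Y) (a i) ≫ s i) ⊤) =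
        mgerm L hy ((∑ i, algebraMap k Γ(Y, U) (a i) * co (val (s i) U)) • e) := by
      have h0 := hcomb a 0
      rw [zero_add, val_zero, show co (0 : Γ(L, U)) = 0 from hb.1 (by simp only [hco, zero_smul]), zero_add] at h0
      rw [← h0, ← res_val _ (le_top : U ≤ ⊤)]
      exact (mgerm_res L (le_top : U ≤ ⊤) hy _).symm
    rw [hval, ← map_sub, ← sub_smul, mgerm_smul, mem_ideal_smul_iff he hy] at ha
    let E := IsLocalization.algEquiv p.primeCompl (Y.presheaf.stalk (hU.fromSpec pt)) (Localization.AtPrime p)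
    have := Ideal.mem_map_of_mem E.toRingEquiv.toRingHom ha
    rw [Ideal.map_pow] at this
    refine Ideal.pow_right_mono (Ideal.map_le_iff_le_comap.2 fun z hz hu => hz ?_ :
      (IsLocalRing.maximalIdeal _).map E.toRingEquiv.toRingHom ≤ IsLocalRing.maximalIdeal (Localization.AtPrime p)) 2 ?_
    · have hu' : IsUnit (E z) := hu
      simpa using hu'.map E.symm
    convert! this using 1
    exact (E.commutes _).symm
  obtain ⟨g, hg0, hg⟩ := exists_bound_jets (k := k) (fun i => co (val (s i) U)) (co (val f U)) hjet'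
  refine ⟨g, hg0, fun a ha => ?_⟩
  let I := (PicF2.zeroScheme L (f + ∑ i : Fin m, Formal.smulMod k (Coh.structureModule Y) (a i) ≫ s i)).ideal ⟨U, hU⟩
  have hI : I = Ideal.span {co (val f U) + ∑ i, algebraMap k Γ(Y, U) (a i) * co (val (s i) U)} :=
    ideal_zeroScheme_eq_span _ hL ⟨U, hU⟩ he (hcomb a f)
  haveI : Algebra.FormallySmooth k (Γ(Y, U) ⧸ I) := by
    have := hg a ha
    exact .of_equiv (Ideal.quotientEquivAlgOfEq k hI).symm
  haveI : Algebra.FiniteType k (Γ(Y, U) ⧸ I) :=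
    Algebra.FiniteType.of_surjective (Ideal.Quotient.mkₐ k I) Ideal.Quotient.mk_surjective
  haveI : Algebra.Smooth k (Γ(Y, U) ⧸ I) := ⟨inferInstance, Algebra.FinitePresentation.of_finiteType.1 inferInstance⟩
  exact RingHom.smooth_algebraMap.2 (inferInstance : Algebra.Smooth k (Γ(Y, U) ⧸ I))

/-- Bertini for jets. -/
theorem exists_smooth_member [QuasiCompact (Y ↘ Spec (CommRingCat.of k))]
    (hL : FlatMod.IsFinLocFreeOfRank 1 L) (m : ℕ)
    (s : Fin m → (Coh.structureModule Y ⟶ L)) (f : Coh.structureModule Y ⟶ L)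
    (hjet : ∀ p : Y, IsClosed ({p} : Set Y) → ∀ l : ↥(L.presheaf.stalk p), ∃ c : Fin m → k,
      (L.presheaf.germ ⊤ p trivial)
          (PicF2.secVal L (∑ i : Fin m, Formal.smulMod k (Coh.structureModule Y) (c i) ≫ s i) ⊤) - l ∈
        (IsLocalRing.maximalIdeal ↥(Y.presheaf.stalk p)) ^ 2 •
          (⊤ : Submodule ↥(Y.presheaf.stalk p) ↥(L.presheaf.stalk p))) :
    ∃ q : MvPolynomial (Fin m) k, q ≠ 0 ∧ ∀ c : Fin m → k, MvPolynomial.eval c q ≠ 0 →
      Smooth ((PicF2.zeroScheme L (f + ∑ i : Fin m, Formal.smulMod k (Coh.structureModule Y) (c i) ≫ s i)).subschemeι ≫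
        (Y ↘ Spec (CommRingCat.of k))) := by
  classical
  have hL' := isInvertible_of_rankOne hL
  haveI : CompactSpace Y := HasAffineProperty.iff_of_isAffine.1 ‹QuasiCompact (Y ↘ Spec (CommRingCat.of k))›
  have hchart : ∀ x : Y, ∃ W : Y.affineOpens, x ∈ W.1 ∧ ∃ e : Γ(L, W.1), IsGen e := fun x => by
    obtain ⟨V, e, hxV, he⟩ := TMul.exists_isGen hL' x
    obtain ⟨_, ⟨W, hW, rfl⟩, hxW, hWV⟩ :=
      Y.isBasis_affineOpens.exists_subset_of_mem_open (show x ∈ (V : Set Y) from hxV) V.isOpen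
    exact ⟨⟨W, hW⟩, hxW, res L hWV e, he.res hWV⟩
  choose W hxW e he using hchart
  obtain ⟨t, ht⟩ := CompactSpace.elim_nhds_subcover (fun x => ((W x).1 : Set Y))
    fun x => (W x).1.isOpen.mem_nhds (hxW x)
  choose g hg0 hg using fun x : Y => exists_bound_affine_jets hL' (W x).2 (he x) s f hjet
  refine ⟨∏ x ∈ t, g x, Finset.prod_ne_zero_iff.2 fun x _ => hg0 x, fun c hc => ?_⟩
  rw [map_prod, Finset.prod_ne_zero_iff] at hc
  refine smooth_subscheme _ (fun i : t => W i.1) (fun x => ?_) fun i => hg i.1 c (hc i.1 i.2)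
  have : x ∈ ⋃ x ∈ t, ((W x).1 : Set Y) := ht.ge (Set.mem_univ x)
  simp only [Set.mem_iUnion] at this
  obtain ⟨i, hi, hxi⟩ := this
  exact ⟨⟨i, hi⟩, hxi⟩

end Groth.Agent.HypSec
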