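import Groth.Agent.HypSec.Chart
import Groth.Agent.HypSec.Incidence
import Mathlib.AlgebraicGeometry.Morphisms.Smooth
import Mathlib.RingTheory.Localization.Ideal

/-! A general hyperplane cuts the smooth locus transversally. -/

set_option autoImplicit false

noncomputable section

namespace Groth.Agent.HypSec

open KaehlerDifferential AlgebraicGeometry

universe u

variable {k A : Type u} [Field k] [CommRing A] [Algebra k A] {n r : ℕ}

/-- The affine linear form with coefficients `a`. -/
abbrev form (x : Fin n → A) (a : Fin (n + 1) → k) : A :=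
  algebraMap k A (a 0) + ∑ i : Fin n, algebraMap k A (a i.succ) * x i

theorem D_form_map {T : Type u} [CommRing T] [Algebra k T] [Algebra A T] [IsScalarTower k A T] (x : Fin n → A)
    (a : Fin (n + 1) → k) :
    D k T (algebraMap A T (form x a)) = ∑ i : Fin n, algebraMap k T (a i.succ) • D k T (algebraMap A T (x i)) := by
  simp [form, map_sum, ← IsScalarTower.algebraMap_apply]

theorem exists_hyperplane_bound [Algebra.FiniteType k A] (x : Fin n → A)
    (hdim : ∀ P ∈ minimalPrimes A, ringKrullDim (A ⧸ P) = r) (G : A) (hG : IsChart k x r G) :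
    ∃ g : MvPolynomial (Fin (n + 1)) k, g ≠ 0 ∧ ∀ (a : Fin (n + 1) → k), MvPolynomial.eval a g ≠ 0 →
      ∀ (p : Ideal A) [p.IsPrime], G ∉ p → form x a ∈ p →
        ∃ t, t ∉ p ∧ Algebra.IsStandardSmoothOfRelativeDimension (r - 1) k
          (Localization.Away (Ideal.Quotient.mk (Ideal.span {form x a}) t)) := by
  classical
  obtain ⟨cols, hcols, hch⟩ := hG
  let T := Localization.Away G
  haveI : Algebra.FiniteType k T := Algebra.FiniteType.trans (S := A) inferInstance inferInstance
  obtain ⟨-, b, hb⟩ := hch G dvd_rfl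
  let M : Matrix (Fin r) (Fin n) T := fun l i => b.repr (D k T (algebraMap A T (x i))) l
  have hM : ∀ l m, M l (cols m) = if l = m then 1 else 0 := fun l m => by
    show b.repr (D k T (algebraMap A T (x (cols m)))) l = _
    rw [← hb m, Module.Basis.repr_self, Finsupp.single_apply]
    exact if_congr eq_comm rfl rfl
  obtain ⟨g, hg0, hg⟩ := exists_bound_chart (k := k)
    ((ringKrullDim_away_le G).trans (ringKrullDim_le_of_components hdim)) (fun i => algebraMap A T (x i)) M cols
    hcols hM
  refine ⟨g, hg0, fun a ha p _ hGp hhp => ?_⟩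
  let h := form x a
  let φ : T →+* p.ResidueField := IsLocalization.Away.lift G (g := algebraMap A p.ResidueField)
    (isUnit_iff_ne_zero.2 fun e => hGp (p.algebraMap_residueField_eq_zero.1 e))
  have hφ : ∀ y, φ (algebraMap A T y) = algebraMap A p.ResidueField y := fun y => IsLocalization.Away.lift_eq G _ y
  let c : Fin r → T := fun l => ∑ i, algebraMap k T (a i.succ) * M l i
  obtain ⟨l₀, hl₀⟩ : ∃ l, φ (c l) ≠ 0 := by
    by_contra hh
    push Not at hh
    refine ha (hg a φ ?_ hh)
    rw [show algebraMap k T (a 0) + ∑ i, algebraMap k T (a i.succ) * algebraMap A T (x i) = algebraMap A T h by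
      simp [h, form, map_sum, ← IsScalarTower.algebraMap_apply], hφ]
    exact p.algebraMap_residueField_eq_zero.2 hhp
  have hDh : D k T (algebraMap A T h) = ∑ l, c l • b l := by
    rw [← b.sum_repr (D k T (algebraMap A T h))]
    refine Finset.sum_congr rfl fun l _ => ?_
    congr 1
    simp only [h, D_form_map, map_sum, map_smul, Finsupp.coe_finsetSum, Finset.sum_apply, Finsupp.coe_smul,
      Pi.smul_apply, smul_eq_mul, c, M]
  obtain ⟨m, z, hz⟩ := IsLocalization.Away.surj G (c l₀)
  have hzp : z ∉ p := fun hz' => by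
    have e := congrArg φ hz
    rw [map_mul, map_pow, hφ, hφ, p.algebraMap_residueField_eq_zero.2 hz', mul_eq_zero] at e
    exact e.elim hl₀ fun e => hGp (p.algebraMap_residueField_eq_zero.1 (eq_zero_of_pow_eq_zero e))
  refine ⟨G * z, Ideal.IsPrime.mul_notMem ‹_› hGp hzp, ?_⟩
  let T' := Localization.Away (G * z)
  obtain ⟨hfs, bt, hbt⟩ := hch (G * z) (dvd_mul_right G z)
  haveI := hfs
  haveI : Algebra.FiniteType k T' := Algebra.FiniteType.trans (S := A) inferInstance inferInstance
  let ι : T →+* T' := IsLocalization.Away.awayToAwayRight G z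
  letI : Algebra T T' := ι.toAlgebra
  have hι : ∀ y, algebraMap T T' (algebraMap A T y) = algebraMap A T' y := fun y =>
    IsLocalization.Away.awayToAwayRight_eq G z y
  haveI : IsScalarTower A T T' := IsScalarTower.of_algebraMap_eq fun y => (hι y).symm
  haveI : IsScalarTower k T T' := IsScalarTower.of_algebraMap_eq fun y => by
    rw [IsScalarTower.algebraMap_apply k A T, hι, ← IsScalarTower.algebraMap_apply]
  have hDh' : D k T' (algebraMap A T' h) = ∑ l, algebraMap T T' (c l) • bt l := by
    have e := congrArg (map k k T T') hDh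
    have hbm : ∀ l, map k k T T' (b l) = bt l := fun l => by
      rw [hb l, hbt l, map_D]
      exact congrArg _ (hι _)
    rw [map_D, hι, map_sum] at e
    rw [e]
    refine Finset.sum_congr rfl fun l _ => ?_
    rw [map_smul, hbm, algebraMap_smul]
  have hu : IsUnit (bt.repr (D k T' (algebraMap A T' h)) l₀) := by
    rw [hDh', bt.repr_sum_self]
    have e := congrArg (algebraMap T T') hz
    rw [map_mul, map_pow, hι, hι] at e
    have hz' : IsUnit (algebraMap A T' z) :=
      isUnit_of_dvd_unit (map_dvd _ (dvd_mul_left z G)) (IsLocalization.Away.algebraMap_isUnit (G * z))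
    rw [← e] at hz'
    exact isUnit_of_mul_isUnit_left hz'
  let I := Ideal.span ({h} : Set A)
  have hI : I.map (algebraMap A T') = Ideal.span {algebraMap A T' h} := by
    rw [Ideal.map_span, Set.image_singleton]
  let e₁ : (T' ⧸ Ideal.span {algebraMap A T' h}) ≃ₐ[k] T' ⧸ I.map (algebraMap A T') :=
    Ideal.quotientEquivAlgOfEq k hI.symm
  haveI : IsLocalization.Away (Ideal.Quotient.mk I (G * z)) (T' ⧸ I.map (algebraMap A T')) := by
    have : Algebra.algebraMapSubmonoid (A ⧸ I) (Submonoid.powers (G * z)) =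
        Submonoid.powers (Ideal.Quotient.mk I (G * z)) := Submonoid.map_powers _ _
    show IsLocalization _ _
    rw [← this]
    infer_instance
  haveI : IsScalarTower k (A ⧸ I) (T' ⧸ I.map (algebraMap A T')) := IsScalarTower.of_algebraMap_eq fun y => by
    show Ideal.Quotient.mk _ (algebraMap k T' y) = Ideal.Quotient.mk _ (algebraMap A T' (algebraMap k A y))
    rw [← IsScalarTower.algebraMap_apply]
  let e₂ : (T' ⧸ I.map (algebraMap A T')) ≃ₐ[A ⧸ I] Localization.Away (Ideal.Quotient.mk I (G * z)) :=
    IsLocalization.algEquiv (Submonoid.powers (Ideal.Quotient.mk I (G * z))) _ _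
  have hIp : I ≤ p := by simpa [I, Ideal.span_le] using hhp
  rcases isStandardSmooth_quotient bt (fun l => algebraMap A T' (x (cols l))) hbt (algebraMap A T' h) l₀ hu with hs | hs
  · exact .of_algEquiv _ (e₁.trans (e₂.restrictScalars k))
  · exfalso
    have : Subsingleton (Localization.Away (Ideal.Quotient.mk I (G * z))) :=
      (e₁.trans (e₂.restrictScalars k)).toEquiv.symm.subsingleton
    obtain ⟨m', hm'⟩ := (IsLocalization.subsingleton_iff (M := Submonoid.powers (Ideal.Quotient.mk I (G * z)))).1 this
    have hm' : Ideal.Quotient.mk I ((G * z) ^ m') = 0 := by rw [map_pow]; exact hm'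
    exact Ideal.IsPrime.mul_notMem ‹p.IsPrime› hGp hzp
      (‹p.IsPrime›.mem_of_pow_mem m' (hIp (Ideal.Quotient.eq_zero_iff_mem.1 hm')))

theorem exists_hyperplane_section_smooth [Infinite k] (x : Fin n → A)
    (hx : Function.Surjective (MvPolynomial.aeval x : MvPolynomial (Fin n) k →ₐ[k] A))
    (hdim : ∀ P ∈ minimalPrimes A, ringKrullDim (A ⧸ P) = r) :
    ∃ g : MvPolynomial (Fin (n + 1)) k, g ≠ 0 ∧ ∀ a : Fin (n + 1) → k, MvPolynomial.eval a g ≠ 0 →
      ∀ (q : Ideal (A ⧸ Ideal.span {form x a})) (_ : q.IsPrime),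
        (∃ f : A, f ∉ q.comap (Ideal.Quotient.mk _) ∧
          Smooth (Spec.map (CommRingCat.ofHom (algebraMap k (Localization.Away f))))) →
        ∃ f : A ⧸ Ideal.span {form x a}, f ∉ q ∧
          SmoothOfRelativeDimension (r - 1) (Spec.map (CommRingCat.ofHom (algebraMap k (Localization.Away f)))) := by
  classical
  haveI : Algebra.FiniteType k A := Algebra.FiniteType.of_surjective (MvPolynomial.aeval x) hx
  haveI : IsNoetherianRing A := Algebra.FiniteType.isNoetherianRing k A
  let 𝒢 : Set A := {G | IsChart k x r G}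
  obtain ⟨s, hs, hspan⟩ := (Submodule.fg_span_iff_fg_span_finset_subset 𝒢).1 (IsNoetherian.noetherian (Submodule.span A 𝒢))
  choose g hg0 hg using fun G : {G // G ∈ s} => exists_hyperplane_bound x hdim G.1 (hs G.2)
  refine ⟨∏ G, g G, Finset.prod_ne_zero_iff.2 fun G _ => hg0 G, fun a ha q hq hsm => ?_⟩
  obtain ⟨f, hf, hsmooth⟩ := hsm
  haveI := hq
  let p := q.comap (Ideal.Quotient.mk (Ideal.span {form x a}))
  haveI : Algebra.FormallySmooth k (Localization.Away f) := by
    have h := (HasRingHomProperty.Spec_iff (P := @Smooth)).1 hsmooth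
    have := RingHom.smooth_algebraMap.1 h
    infer_instance
  obtain ⟨G₀, hG₀, hch⟩ := exists_chart x hx hdim p f hf
  obtain ⟨G, hGs, hGp⟩ : ∃ G ∈ s, G ∉ p := by
    by_contra hh
    push Not at hh
    exact hG₀ ((Submodule.span_le.2 hh) (hspan ▸ Submodule.subset_span hch))
  rw [map_prod, Finset.prod_ne_zero_iff] at ha
  have hhp : form x a ∈ p := by
    simp [p, Ideal.mem_comap, Ideal.Quotient.eq_zero_iff_mem.2 (Ideal.mem_span_singleton_self (form x a))]
  obtain ⟨t, ht, hts⟩ := hg ⟨G, hGs⟩ a (ha _ (Finset.mem_univ _)) p hGp hhp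
  refine ⟨Ideal.Quotient.mk _ t, ht, ?_⟩
  refine (HasRingHomProperty.Spec_iff (P := @SmoothOfRelativeDimension (r - 1))).2 ?_
  exact RingHom.locally_of (RingHom.isStandardSmoothOfRelativeDimension_respectsIso) _
    ((RingHom.isStandardSmoothOfRelativeDimension_algebraMap _).2 hts)

end Groth.Agent.HypSec
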