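import Groth.Agent.HypSec.Main
import Groth.Agent.CIBertini.Local
import Groth.Agent.CotT.Smooth
import Groth.Agent.S9576

/-! A general hyperplane section of a nonsingular projective variety is nonsingular. -/

set_option autoImplicit false

noncomputable section

namespace Groth.Agent.HypSec

open AlgebraicGeometry CategoryTheory MvPolynomial TopologicalSpace

universe u

variable {k : Type u} [Field k] [IsAlgClosed k]

theorem regular_localization_quotient {A S : Type u} [CommRing A] [Algebra k A] [Algebra.FiniteType k A]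
    [CommRing S] [Algebra A S] (p : Ideal A) [p.IsMaximal] [IsLocalization.AtPrime S p] (h : A) (hh : h ∈ p)
    (hsm : ∀ (q : Ideal (A ⧸ Ideal.span {h})) [q.IsPrime], q.comap (Ideal.Quotient.mk _) = p →
      ∃ f ∉ q, Algebra.FormallySmooth k (Localization.Away f)) :
    IsRegularLocalRing (S ⧸ Ideal.span {algebraMap A S h}) := by
  let I := Ideal.span ({h} : Set A)
  have hker : RingHom.ker (Ideal.Quotient.mk I) ≤ p := by
    rw [Ideal.mk_ker]; exact Ideal.span_le.2 (by simpa using hh)
  let q := p.map (Ideal.Quotient.mk I)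
  haveI hqm : q.IsMaximal := Ideal.IsMaximal.map_of_surjective_of_ker_le Ideal.Quotient.mk_surjective hker
  have hq : q.comap (Ideal.Quotient.mk I) = p := by
    rw [Ideal.comap_map_of_surjective _ Ideal.Quotient.mk_surjective, ← RingHom.ker_eq_comap_bot,
      sup_eq_left.2 hker]
  haveI : Algebra.FiniteType k (A ⧸ I) :=
    Algebra.FiniteType.of_surjective (Ideal.Quotient.mkₐ k I) Ideal.Quotient.mk_surjective
  haveI : Algebra.FinitePresentation k (A ⧸ I) := Algebra.FinitePresentation.of_finiteType.1 inferInstance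
  obtain ⟨f, hf, hfs⟩ := hsm q hq
  haveI := hfs
  have : (⟨q, inferInstance⟩ : PrimeSpectrum (A ⧸ I)) ∈ Algebra.smoothLocus k (A ⧸ I) :=
    (Algebra.basicOpen_subset_smoothLocus_iff (f := f)).2 inferInstance hf
  haveI := (CotT.regular_iff_smoothAt (k := k) q).2 this
  obtain ⟨e⟩ := CIBertini.nonempty_localQuot I q
  haveI := IsRegularLocalRing.of_ringEquiv e
  have aux : ∀ (p' : Ideal A) [p'.IsPrime], p' = p →
      IsRegularLocalRing (Localization.AtPrime p' ⧸ I.map (algebraMap A (Localization.AtPrime p'))) →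
      IsRegularLocalRing (Localization.AtPrime p ⧸ I.map (algebraMap A (Localization.AtPrime p))) := by
    intro p' _ e h; subst e; exact h
  haveI := aux _ hq this
  exact IsRegularLocalRing.of_ringEquiv (Ideal.quotientEquiv (I.map (algebraMap A (Localization.AtPrime p)))
    (Ideal.span {algebraMap A S h}) (IsLocalization.algEquiv p.primeCompl (Localization.AtPrime p) S).toRingEquiv (by
      rw [Ideal.map_span, Ideal.map_span, Set.image_singleton, Set.image_singleton]
      exact congrArg (fun z => Ideal.span {z}) (AlgEquiv.commutes _ h).symm))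

variable (k) in
theorem affine_section [Infinite k] {n : ℕ} {A : Type u} [CommRing A] [IsDomain A] [Algebra k A] (y : Fin n → A)
    (hy : Function.Surjective (aeval y : MvPolynomial (Fin n) k →ₐ[k] A))
    (hreg : ∀ (m : Ideal A) [m.IsMaximal], IsRegularLocalRing (Localization.AtPrime m)) :
    ∃ g : MvPolynomial (Fin (n + 1)) k, g ≠ 0 ∧ ∀ a : Fin (n + 1) → k, eval a g ≠ 0 →
      ∀ (S : Type u) [CommRing S] [Algebra A S] (p : Ideal A) [p.IsMaximal] [IsLocalization.AtPrime S p],
        form y a ∈ p → IsRegularLocalRing (S ⧸ Ideal.span {algebraMap A S (form y a)}) := by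
  haveI : Algebra.FiniteType k A := Algebra.FiniteType.of_surjective (aeval y) hy
  obtain ⟨r, -, hr⟩ := DimFormula.exists_trdeg_eq_ringKrullDim k A
  have hdim : ∀ P ∈ minimalPrimes A, ringKrullDim (A ⧸ P) = r := by
    intro P hP
    rw [IsDomain.minimalPrimes_eq_singleton_bot, Set.mem_singleton_iff] at hP
    subst hP
    rw [← hr]
    exact ringKrullDim_eq_of_ringEquiv (RingEquiv.quotientBot A)
  obtain ⟨g, hg0, hg⟩ := exists_hyperplane_section_smooth (k := k) y hy hdim
  refine ⟨g, hg0, fun a ha S _ _ p _ _ hhp => regular_localization_quotient (k := k) p _ hhp fun q _ hq => ?_⟩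
  haveI : Algebra.FormallySmooth k A := CotT.formallySmooth_of_maximal hreg
  haveI : Algebra.FinitePresentation k A := Algebra.FinitePresentation.of_finiteType.1 inferInstance
  haveI : Algebra.FinitePresentation A (Localization.Away (1 : A)) := IsLocalization.Away.finitePresentation 1
  haveI : Algebra.FormallyEtale A (Localization.Away (1 : A)) := .of_isLocalization (Submonoid.powers 1)
  haveI : Algebra.FormallySmooth k (Localization.Away (1 : A)) := .comp _ A _
  haveI : Algebra.Smooth k (Localization.Away (1 : A)) := ⟨inferInstance, .trans _ A _⟩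
  obtain ⟨f, hf, hfs⟩ := hg a ha q inferInstance ⟨1, fun h1 => by simp [Ideal.mem_comap] at h1; exact ‹q.IsPrime›.ne_top ((Ideal.eq_top_iff_one _).2 h1),
    (HasRingHomProperty.Spec_iff (P := @Smooth)).2 (RingHom.smooth_algebraMap.2 inferInstance)⟩
  haveI := SmoothOfRelativeDimension.smooth (r - 1) (Spec.map (CommRingCat.ofHom (algebraMap k (Localization.Away f))))
  have := RingHom.smooth_algebraMap.1 ((HasRingHomProperty.Spec_iff (P := @Smooth)).1 this)
  exact ⟨f, hf, inferInstance⟩

variable {n : ℕ} {X : Scheme.{u}} [IsIntegral X] (ι : X ⟶ CohB1.ProjSpace n k) [IsClosedImmersion ι]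

/-- The coefficients of a linear form in the coordinates of the `j`-th chart. -/
def chartIdx (j : Fin (n + 1)) : Fin (n + 1) → Fin (n + 1) := Fin.cases j (Fin.succAbove j)

theorem chartIdx_injective (j : Fin (n + 1)) : Function.Injective (chartIdx j) := by
  intro a b
  refine Fin.cases (Fin.cases ?_ (fun b' => ?_) b) (fun a' => Fin.cases ?_ (fun b' => ?_) b) a
  · exact fun _ => rfl
  · exact fun e => absurd e.symm (Fin.succAbove_ne j b')
  · exact fun e => absurd e (Fin.succAbove_ne j a')
  · exact fun e => congrArg Fin.succ (Fin.succAbove_right_injective e)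

/-- A linear form divided by a coordinate. -/
abbrev divX (j : Fin (n + 1)) (h : ↥(CohB1.polyGrading n k 1)) :
    HomogeneousLocalization.Away (CohB1.polyGrading n k) (MvPolynomial.X j : MvPolynomial (Fin (n + 1)) k) :=
  HomogeneousLocalization.mk ⟨1, h, ⟨MvPolynomial.X j, MvPolynomial.isHomogeneous_X k j⟩, ⟨1, pow_one _⟩⟩

omit [IsAlgClosed k] in
theorem eq_sum_coeff (h : MvPolynomial (Fin (n + 1)) k) (hh : h.IsHomogeneous 1) :
    h = ∑ i, C (coeff (Finsupp.single i 1) h) * MvPolynomial.X i := by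
  classical
  ext d
  simp only [coeff_sum, coeff_C_mul, MvPolynomial.coeff_X']
  by_cases hd : ∃ i : Fin (n + 1), d = Finsupp.single i 1
  · obtain ⟨i, rfl⟩ := hd
    rw [Finset.sum_eq_single i (fun b _ hb => by rw [if_neg (fun e => hb (Finsupp.single_left_injective one_ne_zero e)),
      mul_zero]) (fun hi => absurd (Finset.mem_univ i) hi)]
    simp
  · rw [Finset.sum_eq_zero (fun i _ => by rw [if_neg (fun e => hd ⟨i, e.symm⟩), mul_zero])]
    by_contra hne
    have hdeg : Finsupp.degree d = 1 := by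
      rw [Finsupp.degree_eq_sum]
      have := hh hne
      simpa [Finsupp.weight_apply, Finsupp.sum_fintype] using this
    rw [Finsupp.degree_eq_sum] at hdeg
    obtain ⟨i, hi⟩ : ∃ i, d i ≠ 0 := by
      by_contra hall
      push Not at hall
      simp [hall] at hdeg
    have hsplit := Finset.add_sum_erase Finset.univ (fun l => d l) (Finset.mem_univ i)
    rw [hdeg] at hsplit
    refine hd ⟨i, Finsupp.ext fun l => ?_⟩
    by_cases hl : i = l
    · subst hl; rw [Finsupp.single_eq_same]; omega
    · rw [Finsupp.single_eq_of_ne (Ne.symm hl)]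
      have := Finset.single_le_sum (f := fun l => d l) (fun _ _ => Nat.zero_le _)
        (Finset.mem_erase.2 ⟨Ne.symm hl, Finset.mem_univ l⟩)
      omega

omit [IsAlgClosed k] in
/-- The dehomogenisation of a linear form. -/
theorem divX_eq (j : Fin (n + 1)) (h : ↥(CohB1.polyGrading n k 1)) :
    divX j h =
      (HomogeneousLocalization.fromZeroRingHom (CohB1.polyGrading n k) _).comp (algebraMap k (CohB1.polyGrading n k 0))
          (coeff (Finsupp.single j 1) (h : MvPolynomial (Fin (n + 1)) k)) +
        ∑ l : Fin n, (HomogeneousLocalization.fromZeroRingHom (CohB1.polyGrading n k) _).comp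
            (algebraMap k (CohB1.polyGrading n k 0))
            (coeff (Finsupp.single (j.succAbove l) 1) (h : MvPolynomial (Fin (n + 1)) k)) *
          divX j ⟨MvPolynomial.X (j.succAbove l), MvPolynomial.isHomogeneous_X k _⟩ := by
  apply HomogeneousLocalization.val_injective
  let L := Localization.Away (MvPolynomial.X j : MvPolynomial (Fin (n + 1)) k)
  let v := algebraMap (HomogeneousLocalization.Away (CohB1.polyGrading n k) (MvPolynomial.X j :
    MvPolynomial (Fin (n + 1)) k)) L
  have hu : IsUnit (algebraMap (MvPolynomial (Fin (n + 1)) k) L (MvPolynomial.X j)) := IsLocalization.Away.algebraMap_isUnit _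
  refine hu.mul_right_cancel ?_
  have hv : ∀ g : ↥(CohB1.polyGrading n k 1), v (divX j g) * algebraMap (MvPolynomial (Fin (n + 1)) k) L (MvPolynomial.X j) = algebraMap _ L g.1 := fun g => by
    show (divX j g).val * _ = _
    rw [HomogeneousLocalization.val_mk, Localization.mk_eq_mk'_apply]
    exact IsLocalization.mk'_spec L _ _
  have hc : ∀ c : k, v ((HomogeneousLocalization.fromZeroRingHom (CohB1.polyGrading n k) _).comp
      (algebraMap k (CohB1.polyGrading n k 0)) c) = algebraMap _ L (C c) := fun c => by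
    simp only [v, RingHom.comp_apply, HomogeneousLocalization.algebraMap_apply]
    exact (HomogeneousLocalization.val_mk _).trans (Localization.mk_one_eq_algebraMap _)
  rw [← HomogeneousLocalization.algebraMap_apply, ← HomogeneousLocalization.algebraMap_apply]
  rw [map_add, map_sum, add_mul, Finset.sum_mul, hv, hc]
  rw [Finset.sum_congr rfl (fun l _ => (show v (_ * _) * _ =
      algebraMap (MvPolynomial (Fin (n + 1)) k) L
        (C (coeff (Finsupp.single (j.succAbove l) 1) (h : MvPolynomial (Fin (n + 1)) k)) * MvPolynomial.X (j.succAbove l))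
      by rw [map_mul v, mul_assoc, hv, hc, ← map_mul])), ← map_sum, ← map_mul, ← map_add]
  congr 1
  conv_lhs => rw [eq_sum_coeff h.1 h.2, Fin.sum_univ_succAbove _ j]

variable {ι}

theorem exists_chart_bound (hreg : ∀ x : ↥X, IsRegularLocalRing ↑(X.presheaf.stalk x)) (j : Fin (n + 1)) :
    ∃ g : MvPolynomial (Fin (n + 1)) k, g ≠ 0 ∧ ∀ h : ↥(CohB1.polyGrading n k 1),
      eval (fun i => coeff (Finsupp.single i 1) (h : MvPolynomial (Fin (n + 1)) k)) g ≠ 0 →
      ∀ x : ↥X, IsClosed ({x} : Set ↥X) → (h : MvPolynomial (Fin (n + 1)) k) ∈ (ι.base x).asHomogeneousIdeal →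
        ∀ (hj : (MvPolynomial.X j : MvPolynomial (Fin (n + 1)) k) ∉ (ι.base x).asHomogeneousIdeal),
          IsRegularLocalRing (↑(X.presheaf.stalk x) ⧸ Ideal.span {(ι.stalkMap x).hom
            ((Proj.stalkIso' (CohB1.polyGrading n k) (ι.base x)).symm
              (HomogeneousLocalization.mk ⟨1, h, ⟨MvPolynomial.X j, MvPolynomial.isHomogeneous_X k j⟩, hj⟩))}) := by
  classical
  let 𝒜 := CohB1.polyGrading n k
  let D : (CohB1.ProjSpace n k).Opens := Proj.basicOpen 𝒜 (MvPolynomial.X j : MvPolynomial (Fin (n + 1)) k)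
  let U : X.Opens := ι ⁻¹ᵁ D
  have hD : IsAffineOpen D := Proj.isAffineOpen_basicOpen 𝒜 _ (MvPolynomial.isHomogeneous_X k j) one_pos
  have hU : IsAffineOpen U := hD.preimage ι
  rcases isEmpty_or_nonempty U with hemp | hne
  · exact ⟨1, one_ne_zero, fun h _ x _ _ hj => hemp.elim ⟨x, hj⟩⟩
  haveI : Nonempty U := hne
  let ρ : HomogeneousLocalization.Away 𝒜 (MvPolynomial.X j : MvPolynomial (Fin (n + 1)) k) →+* Γ(X, U) :=
    (ι.app D).hom.comp (Proj.awayToSection 𝒜 _).hom
  have hρ : Function.Surjective ρ := by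
    refine (ι.app_surjective D hD).comp ?_
    have := Proj.basicOpenIsoAway 𝒜 (MvPolynomial.X j : MvPolynomial (Fin (n + 1)) k)
      (MvPolynomial.isHomogeneous_X k j) one_pos
    exact (ConcreteCategory.bijective_of_isIso (Proj.basicOpenIsoAway 𝒜
      (MvPolynomial.X j : MvPolynomial (Fin (n + 1)) k) (MvPolynomial.isHomogeneous_X k j) one_pos).hom).surjective
  let cst := (HomogeneousLocalization.fromZeroRingHom 𝒜
    (Submonoid.powers (MvPolynomial.X j : MvPolynomial (Fin (n + 1)) k))).comp (algebraMap k (𝒜 0))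
  letI : Algebra k Γ(X, U) := (ρ.comp cst).toAlgebra
  let y : Fin n → Γ(X, U) := fun l => ρ (divX j ⟨MvPolynomial.X (j.succAbove l), MvPolynomial.isHomogeneous_X k _⟩)
  have hy : Function.Surjective (aeval y : MvPolynomial (Fin n) k →ₐ[k] Γ(X, U)) := by
    intro z
    obtain ⟨z, rfl⟩ := hρ z
    obtain ⟨P, rfl⟩ := ((Groth.Agent.S9576.result n k).2 j).2 z
    refine ⟨rename (finSuccAboveEquiv j).symm P, ?_⟩
    induction P using MvPolynomial.induction_on with
    | C c =>
      simp only [rename_C, aeval_C, eval₂Hom_C, RingHom.algebraMap_toAlgebra]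
      rfl
    | add p q hp hq => rw [map_add, map_add, map_add, map_add, hp, hq]
    | mul_X p i hp =>
      obtain ⟨l, rfl⟩ := (finSuccAboveEquiv j).surjective i
      rw [map_mul, map_mul, map_mul, map_mul, hp, rename_X, Equiv.symm_apply_apply, aeval_X, eval₂Hom_X']
      simp only [y, divX, finSuccAboveEquiv_apply]
  have hregA : ∀ (m : Ideal Γ(X, U)) [m.IsMaximal], IsRegularLocalRing (Localization.AtPrime m) := by
    intro m _
    let pt : PrimeSpectrum Γ(X, U) := ⟨m, inferInstance⟩
    have hmem : hU.fromSpec pt ∈ U := hU.range_fromSpec.le ⟨pt, rfl⟩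
    letI := X.presheaf.algebra_section_stalk ⟨hU.fromSpec pt, hmem⟩
    haveI : IsLocalization.AtPrime (X.presheaf.stalk (hU.fromSpec pt)) m := hU.isLocalization_stalk' pt hmem
    haveI := hreg (hU.fromSpec pt)
    exact IsRegularLocalRing.of_ringEquiv
      (IsLocalization.algEquiv m.primeCompl (X.presheaf.stalk (hU.fromSpec pt)) (Localization.AtPrime m)).toRingEquiv
  obtain ⟨g, hg0, hg⟩ := affine_section k y hy hregA
  refine ⟨rename (chartIdx j) g, (map_ne_zero_iff _ (rename_injective _ (chartIdx_injective j))).2 hg0,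
    fun h hh x hx hhx hj => ?_⟩
  rw [eval_rename] at hh
  have hxU : x ∈ U := hj
  letI := X.presheaf.algebra_section_stalk ⟨x, hxU⟩
  haveI := hU.isLocalization_stalk ⟨x, hxU⟩
  haveI := hU.primeIdealOf_isMaximal_of_isClosed ⟨x, hxU⟩ hx
  let p := (hU.primeIdealOf ⟨x, hxU⟩).asIdeal
  let a : Fin (n + 1) → k := (fun i => coeff (Finsupp.single i 1) (h : MvPolynomial (Fin (n + 1)) k)) ∘ chartIdx j
  have hform : form y a = ρ (divX j h) := by
    rw [divX_eq j h, map_add, map_sum]
    simp only [map_mul, form, a, y, chartIdx, Function.comp_apply, Fin.cases_zero, Fin.cases_succ]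
    rfl
  have himg : algebraMap Γ(X, U) (X.presheaf.stalk x) (ρ (divX j h)) = (ι.stalkMap x).hom
      ((Proj.stalkIso' 𝒜 (ι.base x)).symm
        (HomogeneousLocalization.mk ⟨1, h, ⟨MvPolynomial.X j, MvPolynomial.isHomogeneous_X k j⟩, hj⟩)) := by
    show X.presheaf.germ U x hj ((ι.app D) ((Proj.awayToSection 𝒜 _) (divX j h))) = _
    rw [← Scheme.Hom.germ_stalkMap_apply ι D x hj]
    refine congrArg (ι.stalkMap x).hom ?_
    exact CategoryTheory.congr_fun (ProjectiveSpectrum.Proj.awayToSection_germ (𝒜 := 𝒜)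
      (MvPolynomial.X j : MvPolynomial (Fin (n + 1)) k) (ι.base x) hj) (divX j h)
  rw [← himg, ← hform]
  refine hg a hh _ p ?_
  rw [hform]
  by_contra hnot
  have hunit := IsLocalization.map_units (X.presheaf.stalk x) (⟨_, hnot⟩ : p.primeCompl)
  rw [himg] at hunit
  have hzero : ¬ IsUnit ((Proj.stalkIso' 𝒜 (ι.base x)).symm
      (HomogeneousLocalization.mk ⟨1, h, ⟨MvPolynomial.X j, MvPolynomial.isHomogeneous_X k j⟩, hj⟩)) := by
    rw [isUnit_map_iff]
    intro hu
    rw [← HomogeneousLocalization.isUnit_iff_isUnit_val, HomogeneousLocalization.val_mk,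
      Localization.mk_eq_mk'_apply, IsLocalization.AtPrime.isUnit_mk'_iff (S := Localization.AtPrime
        (ι.base x).asHomogeneousIdeal.toIdeal) (ι.base x).asHomogeneousIdeal.toIdeal] at hu
    exact hu hhx
  exact hzero (isUnit_of_map_unit (ι.stalkMap x).hom _ hunit)

theorem exists_good_hyperplanes (hreg : ∀ x : ↥X, IsRegularLocalRing ↑(X.presheaf.stalk x)) :
    ∃ g : MvPolynomial (Fin (n + 1)) k, g ≠ 0 ∧ ∀ h : ↥(CohB1.polyGrading n k 1),
      eval (fun i => coeff (Finsupp.single i 1) (h : MvPolynomial (Fin (n + 1)) k)) g ≠ 0 →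
      (∃ x : ↥X, (h : MvPolynomial (Fin (n + 1)) k) ∉ (ι.base x).asHomogeneousIdeal) ∧
      ∀ x : ↥X, IsClosed ({x} : Set ↥X) → (h : MvPolynomial (Fin (n + 1)) k) ∈ (ι.base x).asHomogeneousIdeal →
        ∀ (j : Fin (n + 1)) (hj : (MvPolynomial.X j : MvPolynomial (Fin (n + 1)) k) ∉ (ι.base x).asHomogeneousIdeal),
          IsRegularLocalRing (↑(X.presheaf.stalk x) ⧸ Ideal.span {(ι.stalkMap x).hom
            ((Proj.stalkIso' (CohB1.polyGrading n k) (ι.base x)).symm
              (HomogeneousLocalization.mk ⟨1, h, ⟨MvPolynomial.X j, MvPolynomial.isHomogeneous_X k j⟩, hj⟩))}) := by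
  classical
  choose g hg0 hg using fun j => exists_chart_bound hreg j (ι := ι)
  obtain ⟨x₀⟩ : Nonempty X := inferInstance
  let P := (ι.base x₀).asHomogeneousIdeal.toIdeal
  haveI : P.IsPrime := (ι.base x₀).isPrime
  obtain ⟨f₀, hf₀⟩ : ∃ f₀ : MvPolynomial (Fin (n + 1)) k, f₀ ≠ 0 ∧ ∀ h : ↥(CohB1.polyGrading n k 1),
      (h : MvPolynomial (Fin (n + 1)) k) ∈ P →
        eval (fun i => coeff (Finsupp.single i 1) (h : MvPolynomial (Fin (n + 1)) k)) f₀ = 0 := by
    let Φ : (Fin (n + 1) → k) →ₗ[k] MvPolynomial (Fin (n + 1)) k :=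
      Fintype.linearCombination k (fun i => (MvPolynomial.X i : MvPolynomial (Fin (n + 1)) k))
    let W : Submodule k (Fin (n + 1) → k) := (P.restrictScalars k).comap Φ
    have hW : W ≠ ⊤ := by
      intro hW
      obtain ⟨f, hf, hfx⟩ := ProjMor.exists_notMem (ProjMor.genDegOne_projSpace n k) (ι.base x₀)
      refine hfx ?_
      show f ∈ P
      rw [eq_sum_coeff f hf]
      refine P.sum_mem fun i _ => Ideal.mul_mem_left _ _ ?_
      have : Pi.single i 1 ∈ W := hW ▸ trivial
      simpa [W, Φ, Fintype.linearCombination_apply, Pi.single_apply, ite_smul] using this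
    obtain ⟨φ, hφ0, hφ⟩ := Submodule.exists_le_ker_of_lt_top W (lt_top_iff_ne_top.2 hW)
    refine ⟨∑ i, C (φ (Pi.single i 1)) * MvPolynomial.X i, fun h0 => hφ0 (LinearMap.ext fun v => ?_), fun h hh => ?_⟩
    · have hc : ∀ i, φ (Pi.single i 1) = 0 := fun i => by
        have := congrArg (eval (Pi.single i 1)) h0
        simpa [Pi.single_apply] using this
      rw [pi_eq_sum_univ' v, map_sum]
      simp [hc]
    · have hv : (fun i => coeff (Finsupp.single i 1) (h : MvPolynomial (Fin (n + 1)) k)) ∈ W := by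
        show Φ _ ∈ P
        rw [Fintype.linearCombination_apply]
        simp_rw [smul_eq_C_mul]
        rw [← eq_sum_coeff h.1 h.2]
        exact hh
      have := hφ hv
      rw [LinearMap.mem_ker, pi_eq_sum_univ' (fun i => coeff (Finsupp.single i 1) (h : MvPolynomial (Fin (n + 1)) k)),
        map_sum] at this
      simpa [mul_comm] using this
  refine ⟨f₀ * ∏ j, g j, mul_ne_zero hf₀.1 (Finset.prod_ne_zero_iff.2 fun j _ => hg0 j), fun h hh => ?_⟩
  rw [map_mul, mul_ne_zero_iff, map_prod, Finset.prod_ne_zero_iff] at hh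
  exact ⟨⟨x₀, fun hmem => hh.1 (hf₀.2 h hmem)⟩,
    fun x hx hhx j hj => hg j h (hh.2 j (Finset.mem_univ j)) x hx hhx hj⟩

end Groth.Agent.HypSec
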