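import Mathlib.RingTheory.Smooth.StandardSmoothOfFree
import Mathlib.RingTheory.Smooth.StandardSmoothCotangent
import Mathlib.RingTheory.Etale.Kaehler

/-! A hypersurface section of a standard smooth algebra cut by an equation with a unit partial derivative. -/

set_option autoImplicit false

noncomputable section

namespace Groth.Agent.HypSec

open TensorProduct KaehlerDifferential

universe u

variable {k T : Type u} [Field k] [CommRing T] [Algebra k T] {d : ℕ}

/-- If `Ω` has a basis of exact differentials and some coordinate of `dh` is a unit, `T/(h)` is standard smooth. -/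
theorem isStandardSmooth_quotient [Algebra.FiniteType k T] [Algebra.FormallySmooth k T]
    (b : Module.Basis (Fin d) T (Ω[T⁄k])) (s : Fin d → T) (hb : ∀ l, b l = D k T (s l))
    (h : T) (l₀ : Fin d) (hu : IsUnit (b.repr (D k T h) l₀)) :
    Algebra.IsStandardSmoothOfRelativeDimension (d - 1) k (T ⧸ Ideal.span {h}) ∨
      Subsingleton (T ⧸ Ideal.span {h}) := by
  classical
  rcases subsingleton_or_nontrivial (T ⧸ Ideal.span {h}) with hB | hB
  · exact Or.inr hB
  refine Or.inl ?_
  let B := T ⧸ Ideal.span {h}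
  have hsurj : Function.Surjective (algebraMap T B) := Ideal.Quotient.mk_surjective
  let bB : Module.Basis (Fin d) B (B ⊗[T] Ω[T⁄k]) := Algebra.TensorProduct.basis B b
  have hker : RingHom.ker (algebraMap T B) = Ideal.span {h} := Ideal.mk_ker
  have hmem : h ∈ RingHom.ker (algebraMap T B) := by rw [hker]; exact Ideal.mem_span_singleton_self h
  let I := RingHom.ker (algebraMap T B)
  let hbar : I.Cotangent := I.toCotangent ⟨h, hmem⟩
  let v : B ⊗[T] Ω[T⁄k] := (1 : B) ⊗ₜ D k T h
  have hv : kerCotangentToTensor k T B hbar = v := rfl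
  have hI : ∀ z : I.Cotangent, ∃ t : T, z = t • hbar := by
    intro z
    obtain ⟨⟨y, hy⟩, rfl⟩ := I.toCotangent_surjective z
    obtain ⟨t, ht⟩ := Ideal.mem_span_singleton'.1 (hker ▸ hy : y ∈ Ideal.span {h})
    refine ⟨t, ?_⟩
    rw [show hbar = I.toCotangent ⟨h, hmem⟩ from rfl, ← map_smul]
    exact congrArg _ (Subtype.ext ht.symm)
  let c : B := algebraMap T B (b.repr (D k T h) l₀)
  have hc : IsUnit c := hu.map _
  have hvc : ∀ l, bB.repr v l = algebraMap T B (b.repr (D k T h) l) := fun l => by
    simp [v, bB, Algebra.algebraMap_eq_smul_one]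
  obtain ⟨ci, hci⟩ := hu.exists_left_inv
  let π : (B ⊗[T] Ω[T⁄k]) →ₗ[T] B := ((algebraMap T B ci) • bB.coord l₀).restrictScalars T
  have hπ : π v = 1 := by
    show algebraMap T B ci * bB.repr v l₀ = 1
    rw [hvc, ← map_mul, hci, map_one]
  let μ : B →ₗ[T] I.Cotangent :=
    (Submodule.liftQ (Ideal.span {h}) (LinearMap.toSpanSingleton T _ hbar) (by
      intro y hy
      rw [← hker] at hy
      obtain ⟨t, ht⟩ := Ideal.mem_span_singleton'.1 (hker ▸ hy : y ∈ Ideal.span {h})
      rw [LinearMap.mem_ker, LinearMap.toSpanSingleton_apply, show hbar = I.toCotangent ⟨h, hmem⟩ from rfl,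
        ← map_smul, Ideal.toCotangent_eq_zero]
      show y * h ∈ I ^ 2
      rw [sq]
      exact Ideal.mul_mem_mul hy hmem))
  have hμ : μ 1 = hbar := by
    show μ (Submodule.Quotient.mk 1) = hbar
    exact one_smul T hbar
  haveI : Algebra.FormallySmooth k B := by
    refine (Algebra.FormallySmooth.iff_split_injection hsurj).2 ⟨μ ∘ₗ π, LinearMap.ext fun z => ?_⟩
    obtain ⟨t, rfl⟩ := hI z
    rw [LinearMap.comp_apply, map_smul, hv, LinearMap.id_apply, LinearMap.comp_apply, map_smul, hπ,
      LinearMap.map_smul, hμ]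
  let ι := {l : Fin d // l ≠ l₀}
  let F := mapBaseChange k T B
  let w : ι → Ω[B⁄k] := fun l => F (bB l.1)
  have hFv : F v = 0 := by
    show F ((1 : B) ⊗ₜ D k T h) = 0
    rw [mapBaseChange_tmul, map_D, RingHom.mem_ker.1 hmem, map_zero, smul_zero]
  have hsum : ∀ z : B ⊗[T] Ω[T⁄k],
      z = bB.repr z l₀ • bB l₀ + ∑ l : ι, bB.repr z l.1 • bB l.1 := fun z => by
    conv_lhs => rw [← bB.sum_repr z]
    rw [← Finset.add_sum_erase _ _ (Finset.mem_univ l₀)]
    congr 1
    exact Finset.sum_subtype _ (fun l => by simp) _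
  have hspan : ⊤ ≤ Submodule.span B (Set.range w) := by
    rintro z -
    obtain ⟨z, rfl⟩ := mapBaseChange_surjective k T B hsurj z
    obtain ⟨ci', hci'⟩ := hc.exists_left_inv
    have h0 : F (bB l₀) ∈ Submodule.span B (Set.range w) := by
      have e := congrArg F (hsum v)
      rw [hFv, map_add, map_smul, map_sum] at e
      have e' : F (bB l₀) = -(ci' • ∑ l : ι, bB.repr v l.1 • F (bB l.1)) := by
        have := eq_neg_of_add_eq_zero_left e.symm
        rw [hvc] at this
        calc F (bB l₀) = ci' • (c • F (bB l₀)) := by rw [smul_smul, hci', one_smul]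
          _ = _ := by rw [show c • F (bB l₀) = _ from this, smul_neg]; simp only [map_smul]
      rw [e']
      exact Submodule.neg_mem _ (Submodule.smul_mem _ _ (Submodule.sum_mem _ fun l _ =>
        Submodule.smul_mem _ _ (Submodule.subset_span ⟨l, rfl⟩)))
    rw [hsum z, map_add, map_smul, map_sum]
    refine Submodule.add_mem _ (Submodule.smul_mem _ _ h0) (Submodule.sum_mem _ fun l _ => ?_)
    rw [map_smul]
    exact Submodule.smul_mem _ _ (Submodule.subset_span ⟨l, rfl⟩)
  have hind : LinearIndependent B w := by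
    rw [Fintype.linearIndependent_iff]
    intro g hg l
    have hz : F (∑ l : ι, g l • bB l.1) = 0 := by simpa [map_sum, map_smul, w] using hg
    obtain ⟨y, hy⟩ := (exact_kerCotangentToTensor_mapBaseChange k T B hsurj _).1 hz
    obtain ⟨t, rfl⟩ := hI y
    rw [map_smul, hv] at hy
    have hrepr : ∀ j, bB.repr (∑ l : ι, g l • bB l.1) j = if hj : j ≠ l₀ then g ⟨j, hj⟩ else 0 := by
      intro j
      simp only [map_sum, map_smul, Module.Basis.repr_self, Finsupp.coe_finset_sum, Finset.sum_apply,
        Finsupp.coe_smul, Pi.smul_apply, smul_eq_mul]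
      by_cases hj : j = l₀
      · rw [dif_neg (not_not.2 hj)]
        refine Finset.sum_eq_zero fun m _ => ?_
        rw [Finsupp.single_eq_of_ne (fun e => m.2 (e.symm.trans hj)), mul_zero]
      · rw [dif_pos hj, Finset.sum_eq_single_of_mem (⟨j, hj⟩ : ι) (Finset.mem_univ _) (fun m _ hm => by
          rw [Finsupp.single_eq_of_ne (fun e => hm (Subtype.ext e.symm)), mul_zero]),
          Finsupp.single_eq_same, mul_one]
    have hj : ∀ j, algebraMap T B t * bB.repr v j = if hj : j ≠ l₀ then g ⟨j, hj⟩ else 0 := fun j => by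
      rw [← hrepr, ← hy, ← IsScalarTower.algebraMap_smul B t v, map_smul]
      rfl
    have ht : algebraMap T B t = 0 := by
      have := hj l₀
      rw [dif_neg (not_not.2 rfl), hvc] at this
      exact (hc.mul_left_eq_zero).1 this
    have := hj l.1
    rwa [ht, zero_mul, dif_pos l.2, eq_comm] at this
  let bw : Module.Basis ι B (Ω[B⁄k]) := Module.Basis.mk hind hspan
  haveI : Algebra.FiniteType k B :=
    Algebra.FiniteType.of_surjective (Ideal.Quotient.mkₐ k _) Ideal.Quotient.mk_surjective
  haveI : Algebra.FinitePresentation k B := Algebra.FinitePresentation.of_finiteType.mp inferInstance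
  haveI : Algebra.IsStandardSmooth k B := .of_basis_kaehlerDifferential bw (by
    rintro _ ⟨l, rfl⟩
    refine ⟨algebraMap T B (s l.1), ?_⟩
    rw [Module.Basis.mk_apply]
    show _ = F (bB l.1)
    rw [Algebra.TensorProduct.basis_apply, hb, mapBaseChange_tmul, map_D, one_smul])
  rw [Algebra.IsStandardSmoothOfRelativeDimension.iff_of_isStandardSmooth, rank_eq_card_basis bw,
    Fintype.card_subtype_compl, Fintype.card_fin, Fintype.card_subtype_eq]

end Groth.Agent.HypSec
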