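import Groth.Agent.HypSec.Proj
import Groth.Agent.ZeroSch.Over
import Groth.Agent.FpqcDescent.IdealGlue
import Groth.Agent.ProjMor.Base

/-! Smooth hyperplane sections over an infinite field. -/

set_option autoImplicit false
set_option backward.isDefEq.respectTransparency false

noncomputable section

namespace Groth.Agent.HypSec

open AlgebraicGeometry CategoryTheory CategoryTheory.Limits MvPolynomial TopologicalSpace
open Groth.Agent.QC (res resO)
open TMul (IsGen val)
open ProjMor (ev)

universe u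

variable {k : Type u} [Field k] [Infinite k] {n : ℕ}

/-- For a general form the section of a smooth affine domain is smooth. -/
theorem smooth_quotient_form {A : Type u} [CommRing A] [IsDomain A] [Algebra k A] [Algebra.Smooth k A]
    (y : Fin n → A) (hy : Function.Surjective (aeval y : MvPolynomial (Fin n) k →ₐ[k] A)) :
    ∃ g : MvPolynomial (Fin (n + 1)) k, g ≠ 0 ∧ ∀ a : Fin (n + 1) → k, eval a g ≠ 0 →
      ((Ideal.Quotient.mk (Ideal.span {form y a})).comp (algebraMap k A)).Smooth := by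
  haveI : Algebra.FiniteType k A := Algebra.FiniteType.of_surjective (aeval y) hy
  obtain ⟨r, -, hr⟩ := DimFormula.exists_trdeg_eq_ringKrullDim k A
  have hdim : ∀ P ∈ minimalPrimes A, ringKrullDim (A ⧸ P) = r := by
    intro P hP
    rw [IsDomain.minimalPrimes_eq_singleton_bot, Set.mem_singleton_iff] at hP
    subst hP
    rw [← hr]
    exact ringKrullDim_eq_of_ringEquiv (RingEquiv.quotientBot A)
  obtain ⟨g, hg0, hg⟩ := exists_hyperplane_section_smooth (k := k) y hy hdim
  refine ⟨g, hg0, fun a ha => ?_⟩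
  let B := A ⧸ Ideal.span {form y a}
  change (algebraMap k B).Smooth
  rw [RingHom.smooth_algebraMap]
  haveI : Algebra.FiniteType k B :=
    Algebra.FiniteType.of_surjective (Ideal.Quotient.mkₐ k _) Ideal.Quotient.mk_surjective
  haveI : Algebra.FinitePresentation k B := Algebra.FinitePresentation.of_finiteType.1 inferInstance
  refine ⟨Algebra.smoothLocus_eq_univ_iff.1 (Set.eq_univ_of_forall fun q => ?_), inferInstance⟩
  haveI : Algebra.FinitePresentation A (Localization.Away (1 : A)) := IsLocalization.Away.finitePresentation 1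
  haveI : Algebra.FormallyEtale A (Localization.Away (1 : A)) := .of_isLocalization (Submonoid.powers 1)
  haveI : Algebra.FormallySmooth k (Localization.Away (1 : A)) := .comp _ A _
  haveI : Algebra.Smooth k (Localization.Away (1 : A)) := ⟨inferInstance, .trans _ A _⟩
  obtain ⟨f, hf, hfs⟩ := hg a ha q.asIdeal q.2
    ⟨1, fun h1 => by simp [Ideal.mem_comap] at h1; exact q.2.ne_top ((Ideal.eq_top_iff_one _).2 h1),
      (HasRingHomProperty.Spec_iff (P := @Smooth)).2 (RingHom.smooth_algebraMap.2 inferInstance)⟩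
  haveI := hfs
  haveI := SmoothOfRelativeDimension.smooth (r - 1) (Spec.map (CommRingCat.ofHom (algebraMap k (Localization.Away f))))
  have := RingHom.smooth_algebraMap.1 ((HasRingHomProperty.Spec_iff (P := @Smooth)).1 this)
  exact (Algebra.basicOpen_subset_smoothLocus_iff (f := f)).2 inferInstance hf

theorem exists_eval_ne_zero {σ : Type*} (g : MvPolynomial σ k) (hg : g ≠ 0) : ∃ a, eval a g ≠ 0 := by
  by_contra h
  push Not at h
  exact hg (MvPolynomial.funext fun a => by rw [h a, map_zero])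

variable {X : Scheme.{u}} [IsIntegral X]

theorem X_mem (i : Fin (n + 1)) : (MvPolynomial.X i : MvPolynomial (Fin (n + 1)) k) ∈ CohB1.polyGrading n k 1 :=
  MvPolynomial.isHomogeneous_X k i

variable (ι : X ⟶ CohB1.ProjSpace n k)

/-- The dehomogenisation on the `j`-th chart of `X`. -/
def psi (j : Fin (n + 1)) : MvPolynomial (Fin (n + 1)) k →+*
    Γ(X, ι ⁻¹ᵁ Proj.basicOpen (CohB1.polyGrading n k) (MvPolynomial.X j)) :=
  (ev ι _ _ le_rfl).comp (GrT.deh (CohB1.polyGrading n k) (X_mem j))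

theorem psi_C (j : Fin (n + 1)) (c : k) :
    letI : X.Over (Spec (CommRingCat.of k)) := ⟨ι ≫ CohB1.ProjSpace.toSpec n k⟩
    psi ι j (C c) = ZeroSch.cst k _ c :=
  ProjMor.ev_deh_algebraMap (CohB1.polyGrading n k) ι rfl (X_mem j) le_rfl c

theorem psi_self (j : Fin (n + 1)) : psi ι j (MvPolynomial.X j) = 1 :=
  (congrArg (ev ι _ _ le_rfl) (GrT.deh_self (CohB1.polyGrading n k) (X_mem j))).trans (map_one _)

theorem smooth_quotient_congr {R S : Type u} [CommRing R] [CommRing S] {I J : Ideal S} (e : I = J) {f : R →+* S}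
    (h : ((Ideal.Quotient.mk J).comp f).Smooth) : ((Ideal.Quotient.mk I).comp f).Smooth := by
  subst e; exact h

theorem exists_smoothChart [IsClosedImmersion ι] [Smooth (ι ≫ CohB1.ProjSpace.toSpec n k)] (j : Fin (n + 1)) :
    letI : X.Over (Spec (CommRingCat.of k)) := ⟨ι ≫ CohB1.ProjSpace.toSpec n k⟩
    ∃ g : MvPolynomial (Fin (n + 1)) k, g ≠ 0 ∧ ∀ a : Fin (n + 1) → k, eval a g ≠ 0 →
      Nonempty (ι ⁻¹ᵁ Proj.basicOpen (CohB1.polyGrading n k) (MvPolynomial.X j) : X.Opens) →
      ((Ideal.Quotient.mk (Ideal.span {psi ι j (ProjMor.linForms n k a)})).comp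
        (ZeroSch.cst k (ι ⁻¹ᵁ Proj.basicOpen (CohB1.polyGrading n k) (MvPolynomial.X j)))).Smooth := by
  letI : X.Over (Spec (CommRingCat.of k)) := ⟨ι ≫ CohB1.ProjSpace.toSpec n k⟩
  haveI : Smooth (X ↘ Spec (CommRingCat.of k)) := ‹Smooth (ι ≫ CohB1.ProjSpace.toSpec n k)›
  let 𝒜 := CohB1.polyGrading n k
  let D := Proj.basicOpen 𝒜 (MvPolynomial.X j : MvPolynomial (Fin (n + 1)) k)
  let U : X.Opens := ι ⁻¹ᵁ D
  rcases isEmpty_or_nonempty U with hemp | hne
  · exact ⟨1, one_ne_zero, fun _ _ h => (not_nonempty_iff.2 hemp h).elim⟩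
  haveI : Nonempty U := hne
  have hD : IsAffineOpen D := Proj.isAffineOpen_basicOpen 𝒜 _ (X_mem j) one_pos
  have hU : IsAffineOpen U := hD.preimage ι
  letI : Algebra k Γ(X, U) := (ZeroSch.cst k U).toAlgebra
  haveI : Algebra.Smooth k Γ(X, U) := RingHom.smooth_algebraMap.1 (by
    rw [RingHom.algebraMap_toAlgebra]; exact ZeroSch.formallySmooth_cst hU)
  let y : Fin n → Γ(X, U) := fun l => psi ι j (MvPolynomial.X (j.succAbove l))
  have hψ : Function.Surjective (psi ι j) := by
    have h1 : Function.Surjective (ev ι D U le_rfl) := by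
      have := ι.app_surjective D hD
      rwa [Scheme.Hom.app_eq_appLE] at this
    refine h1.comp ?_
    exact fun f => ProjMor.exists_deh_eq (X_mem j) f
  let δ : MvPolynomial (Fin (n + 1)) k →ₐ[k] MvPolynomial (Fin n) k :=
    aeval (j.insertNth (α := fun _ => MvPolynomial (Fin n) k) 1 fun l => MvPolynomial.X l)
  have hfac : (aeval y : MvPolynomial (Fin n) k →ₐ[k] Γ(X, U)).toRingHom.comp δ.toRingHom = psi ι j := by
    refine MvPolynomial.ringHom_ext (fun c => ?_) (fun i => ?_)
    · rw [psi_C]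
      simp [δ]
      rfl
    · refine Fin.succAboveCases j ?_ (fun l => ?_) i
      · rw [psi_self]
        simp [δ]
      · simp [δ, y]; rfl
  have hy : Function.Surjective (aeval y : MvPolynomial (Fin n) k →ₐ[k] Γ(X, U)) := fun z => by
    obtain ⟨b, rfl⟩ := hψ z
    exact ⟨δ b, RingHom.congr_fun hfac b⟩
  obtain ⟨g, hg0, hg⟩ := smooth_quotient_form (k := k) y hy
  refine ⟨rename (chartIdx j) g, (map_ne_zero_iff _ (rename_injective _ (chartIdx_injective j))).2 hg0,
    fun a ha _ => ?_⟩
  rw [eval_rename] at ha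
  have hform : psi ι j (ProjMor.linForms n k a) = form y (a ∘ chartIdx j) := by
    rw [ProjMor.linForms, Fintype.linearCombination_apply, map_sum, Fin.sum_univ_succAbove _ j]
    have h1 : ∀ (c : k) (i : Fin (n + 1)), psi ι j (c • MvPolynomial.X i) =
        algebraMap k Γ(X, U) c * psi ι j (MvPolynomial.X i) := fun c i => by
      rw [smul_eq_C_mul, map_mul, psi_C]; rfl
    have h2 : psi ι j (MvPolynomial.X j) = 1 := psi_self ι j
    simp only [h1, h2, mul_one, form, chartIdx, Function.comp_apply, Fin.cases_zero, Fin.cases_succ, y]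
  rw [hform]
  exact hg _ ha

/-- A smooth hyperplane section over an infinite field. -/
theorem exists_smooth_section [IsClosedImmersion ι] [Smooth (ι ≫ CohB1.ProjSpace.toSpec n k)] :
    ∃ s : Coh.structureModule (CohB1.ProjSpace n k) ⟶ Twist.twistProjSpace n k 1,
      (∃ x : ↥X, ι.base x ∉ (PicF2.zeroScheme (Twist.twistProjSpace n k 1) s).support) ∧
      Smooth (pullback.fst ι (PicF2.zeroScheme (Twist.twistProjSpace n k 1) s).subschemeι ≫ ι ≫
        CohB1.ProjSpace.toSpec n k) := by
  classical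
  letI : X.Over (Spec (CommRingCat.of k)) := ⟨ι ≫ CohB1.ProjSpace.toSpec n k⟩
  choose g hg0 hg using fun j => exists_smoothChart ι j
  have hA := ProjMor.genDegOne_projSpace n k
  have hcov : ∀ x : ↥X, ∃ j, x ∈ ι ⁻¹ᵁ Proj.basicOpen (CohB1.polyGrading n k) (MvPolynomial.X j) := fun x => by
    have := (Groth.Agent.S9576.result n k).1.ge (show ι.base x ∈ _ from trivial)
    obtain ⟨j, hj⟩ := Opens.mem_iSup.1 this
    exact ⟨j, hj⟩
  obtain ⟨x₀⟩ : Nonempty X := inferInstance
  let W : Submodule k (Fin (n + 1) → k) :=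
    ((ι.base x₀).asHomogeneousIdeal.toIdeal.restrictScalars k).comap (ProjMor.linForms n k)
  have hW : W ≠ ⊤ := by
    intro hW
    obtain ⟨i, hi⟩ := hcov x₀
    refine (ProjectiveSpectrum.mem_basicOpen _ _ _).1 hi ?_
    have : Pi.single i 1 ∈ W := hW ▸ trivial
    rw [Submodule.mem_comap, ProjMor.linForms_single] at this
    exact this
  obtain ⟨φ, hφ0, hφ⟩ := Submodule.exists_le_ker_of_lt_top W (lt_top_iff_ne_top.2 hW)
  let f₀ : MvPolynomial (Fin (n + 1)) k := ∑ i, C (φ (Pi.single i 1)) * MvPolynomial.X i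
  have hf₀eval : ∀ a, eval a f₀ = φ a := fun a => by
    conv_rhs => rw [pi_eq_sum_univ' a, map_sum]
    simp [f₀, mul_comm]
  have hf₀ : f₀ ≠ 0 := fun h0 => hφ0 (LinearMap.ext fun v => by rw [← hf₀eval, h0, map_zero]; rfl)
  obtain ⟨a, ha⟩ := exists_eval_ne_zero (f₀ * ∏ j, g j)
    (mul_ne_zero hf₀ (Finset.prod_ne_zero_iff.2 fun j _ => hg0 j))
  rw [map_mul, mul_ne_zero_iff, map_prod, Finset.prod_ne_zero_iff, hf₀eval] at ha
  let h := ProjMor.linForms n k a
  have hh : h ∈ CohB1.polyGrading n k 1 := ProjMor.linForms_mem n k a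
  let L : (CohB1.ProjSpace n k).Modules := Twist.twistProjSpace n k 1
  have hL : PicF.IsInvertible L := GrT.isInvertible_twist (ProjMor.exists_notMem hA) 1
  let s : Coh.structureModule (CohB1.ProjSpace n k) ⟶ L := TMul.homOf (ProjMor.sec1 hh)
  have hideal : ∀ j, (PicF2.zeroScheme L s).ideal ⟨Proj.basicOpen (CohB1.polyGrading n k) (MvPolynomial.X j),
      Proj.isAffineOpen_basicOpen _ _ (X_mem j) one_pos⟩ =
      Ideal.span {GrT.deh (CohB1.polyGrading n k) (X_mem j) h} := by
    intro j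
    have he : IsGen (res L le_top (ProjMor.sec1 (X_mem (k := k) j)) :
        Γ(L, Proj.basicOpen (CohB1.polyGrading n k) (MvPolynomial.X j))) := by
      have := (TMul.isGen_genLocus (TMul.homOf (ProjMor.sec1 (X_mem (k := k) j)))).res
        (ProjMor.genLocus_sec1 hA (X_mem j)).ge
      rwa [TMul.val_homOf, Groth.Agent.QC.res_res] at this
    refine ZeroSch.ideal_zeroScheme_eq_span s hL _ he ?_
    rw [TMul.val_homOf]
    exact ProjMor.res_sec1 (X_mem j) hh
  refine ⟨s, ⟨x₀, fun hsupp => ha.1 ?_⟩, ?_⟩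
  · have hnot : (h : MvPolynomial (Fin (n + 1)) k) ∈ (ι.base x₀).asHomogeneousIdeal := by
      by_contra hnot
      obtain ⟨U, e, c, hU, hxU, -, he, hc⟩ := TMul.exists_coeff hL s (W := ⊤) (x := ι.base x₀) trivial
      rw [Scheme.IdealSheafData.mem_support_iff_of_mem (U := ⟨U, hU⟩) hxU,
        ZeroSch.ideal_zeroScheme_eq_span s hL ⟨U, hU⟩ he hc] at hsupp
      have hmem : ι.base x₀ ∈ U ⊓ CohB1.genLocus L s :=
        ⟨hxU, (ProjMor.genLocus_sec1 hA hh).ge ((ProjectiveSpectrum.mem_basicOpen _ _ _).2 hnot)⟩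
      rw [TMul.genLocus_inf s he hc] at hmem
      exact (Scheme.mem_zeroLocus_iff _ _ _).1 hsupp c (Ideal.mem_span_singleton_self c) hmem
    exact hφ hnot
  · have key : Smooth (((PicF2.zeroScheme L s).comap ι).subschemeι ≫ (X ↘ Spec (CommRingCat.of k))) := by
      choose j hj using hcov
      refine ZeroSch.smooth_subscheme _ (fun x => ⟨_, (Proj.isAffineOpen_basicOpen (CohB1.polyGrading n k) _
        (X_mem (j x)) one_pos).preimage ι⟩) (fun x => ⟨x, hj x⟩) fun x => ?_
      refine smooth_quotient_congr ?_ (hg (j x) a (ha.2 _ (Finset.mem_univ _)) ⟨⟨x, hj x⟩⟩)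
      rw [Groth.Agent.FpqcDescent.ideal_comap_appLE _ ι ⟨Proj.basicOpen (CohB1.polyGrading n k) (MvPolynomial.X (j x)),
        Proj.isAffineOpen_basicOpen _ _ (X_mem (j x)) one_pos⟩ _ le_rfl, hideal, Ideal.map_span, Set.image_singleton]
      rfl
    rw [← Scheme.IdealSheafData.comapIso_inv_subschemeι (PicF2.zeroScheme L s) ι, Category.assoc]
    haveI := key
    exact MorphismProperty.comp_mem _ _ _ inferInstance key

end Groth.Agent.HypSec
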