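import Groth.Agent.HopfSmDim.Local
import Groth.Agent.GLinFree.Dim
import Groth.Agent.CotT.Smooth
import Groth.Agent.RegLoc.Order

/-! Nonsingularity and differentials over an algebraically closed field. -/

set_option autoImplicit false

noncomputable section

namespace Groth.Agent.HypSec

open TensorProduct IsLocalRing

universe u

variable {K A : Type u} [Field K] [CommRing A] [Algebra K A] [Algebra.FiniteType K A]

theorem spanFinrank_local [IsAlgClosed K] [Module.Projective A (Ω[A⁄K])] (m : Ideal A) [m.IsMaximal] :
    (maximalIdeal (Localization.AtPrime m)).spanFinrank =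
      Module.finrank m.ResidueField (m.ResidueField ⊗[A] Ω[A⁄K]) := by
  haveI : IsNoetherianRing A := Algebra.FiniteType.isNoetherianRing K A
  haveI : Algebra.FormallyEtale A (Localization.AtPrime m) := .of_isLocalization m.primeCompl
  let e := KaehlerDifferential.tensorKaehlerEquivOfFormallyEtale K A (Localization.AtPrime m)
  haveI : Module.Free (Localization.AtPrime m) (Localization.AtPrime m ⊗[A] Ω[A⁄K]) :=
    Module.free_of_flat_of_isLocalRing
  haveI : Module.Free (Localization.AtPrime m) (Ω[Localization.AtPrime m⁄K]) := .of_equiv e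
  let pt : PrimeSpectrum A := ⟨m, inferInstance⟩
  rw [spanFinrank_maximalIdeal_eq_finrank_cotangentSpace,
    HopfSmDim.finrank_cotangentSpace (HopfSmDim.hasResidue (K := K) m), ← e.finrank_eq]
  exact ((Module.rankAtStalk_eq_finrank_tensorProduct (M := Ω[A⁄K]) pt).symm).trans (Module.rankAtStalk_eq pt)

omit [Algebra.FiniteType K A] in
/-- The spectrum only sees the reduced ring. -/
def specRedIso (A : Type u) [CommRing A] : PrimeSpectrum (A ⧸ nilradical A) ≃o PrimeSpectrum A :=
  RelIso.ofSurjective (OrderEmbedding.ofMapLEIff (PrimeSpectrum.comap (Ideal.Quotient.mk (nilradical A)))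
    fun _ _ => Ideal.comap_le_comap_iff_of_surjective _ Ideal.Quotient.mk_surjective _ _) fun p =>
      ⟨⟨p.asIdeal.map (Ideal.Quotient.mk _), Ideal.map_isPrime_of_surjective Ideal.Quotient.mk_surjective
          (by rw [Ideal.mk_ker]; exact nilradical_le_prime p.asIdeal)⟩,
        PrimeSpectrum.ext (by
          show (p.asIdeal.map _).comap _ = _
          rw [Ideal.comap_map_of_surjective _ Ideal.Quotient.mk_surjective, ← RingHom.ker_eq_comap_bot, Ideal.mk_ker,
            sup_eq_left.2 (nilradical_le_prime p.asIdeal)])⟩

include K in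
theorem height_eq_of_irreducible (hirr : (nilradical A).IsPrime) (m : Ideal A) [m.IsMaximal] :
    (m.height : WithBot ℕ∞) = ringKrullDim A := by
  haveI := hirr
  let e := specRedIso A
  let x := e.symm ⟨m, inferInstance⟩
  haveI : x.asIdeal.IsMaximal := by
    refine (PrimeSpectrum.isMax_iff (x := x)).1 (fun y hy => ?_)
    have h1 : (⟨m, inferInstance⟩ : PrimeSpectrum A) ≤ e y := (e.symm_apply_le).1 hy
    exact (e.le_symm_apply).2 (PrimeSpectrum.isMax_iff.2 ‹m.IsMaximal› h1)
  haveI : Algebra.FiniteType K (A ⧸ nilradical A) :=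
    Algebra.FiniteType.of_surjective (Ideal.Quotient.mkₐ K _) Ideal.Quotient.mk_surjective
  have h := GLinFree.height_eq_ringKrullDim (K := K) x.asIdeal
  rw [PrimeSpectrum.height_eq_orderHeight] at h
  rw [show m.height = Order.height (⟨m, inferInstance⟩ : PrimeSpectrum A) from
    PrimeSpectrum.height_eq_orderHeight (p := (⟨m, inferInstance⟩ : PrimeSpectrum A)),
    ← Order.height_orderIso e.symm, h]
  exact Order.krullDim_eq_of_orderIso e

theorem regular_iff_kaehler [IsAlgClosed K] (hirr : (nilradical A).IsPrime) (n : ℕ) (hn : ringKrullDim A = n) :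
    (IsReduced A ∧ IsRegularRing A) ↔ (Module.Projective A (Ω[A⁄K]) ∧
      ∀ (P : Ideal A) [P.IsPrime], Module.finrank P.ResidueField (P.ResidueField ⊗[A] Ω[A⁄K]) = n) := by
  haveI : IsNoetherianRing A := Algebra.FiniteType.isNoetherianRing K A
  have hdim : ∀ (m : Ideal A) [m.IsMaximal], ringKrullDim (Localization.AtPrime m) = n := fun m _ => by
    rw [IsLocalization.AtPrime.ringKrullDim_eq_height m, height_eq_of_irreducible (K := K) hirr m, hn]
  constructor
  · rintro ⟨hred, hreg⟩
    haveI := hreg
    haveI : IsDomain A := by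
      rw [nilradical_eq_zero A] at hirr
      haveI := hirr
      exact MulEquiv.isDomain (A ⧸ (⊥ : Ideal A)) (RingEquiv.quotientBot A).symm.toMulEquiv
    haveI : Algebra.FormallySmooth K A := CotT.formallySmooth_of_maximal fun m _ => inferInstance
    refine ⟨inferInstance, fun P _ => ?_⟩
    obtain ⟨m, hm⟩ := Ideal.exists_maximal A
    have h1 := (isRegularLocalRing_iff _).1 (hreg.isRegularLocalRing_localization m)
    rw [spanFinrank_local (K := K) m, hdim m] at h1
    have h2 : Module.finrank m.ResidueField (m.ResidueField ⊗[A] Ω[A⁄K]) = n := by exact_mod_cast h1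
    exact ((Ideal.finrank_fiber_eq_finrank (M := Ω[A⁄K]) P).trans
      (Ideal.finrank_fiber_eq_finrank (M := Ω[A⁄K]) m).symm).trans h2
  · rintro ⟨hproj, hrank⟩
    haveI := hproj
    have hmax : ∀ (m : Ideal A) [m.IsMaximal], IsRegularLocalRing (Localization.AtPrime m) := fun m _ => by
      rw [isRegularLocalRing_iff, spanFinrank_local (K := K) m, hrank m, hdim m]
    haveI : Algebra.FormallySmooth K A := CotT.formallySmooth_of_maximal hmax
    haveI hr : IsRegularRing A :=
      { isRegularLocalRing_localization := fun p _ => CotT.regular_of_formallySmooth (k := K) p }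
    refine ⟨isReduced_ofLocalizationMaximal A fun m _ => ?_, hr⟩
    haveI := hmax m
    haveI : IsDomain (Localization.AtPrime m) := RegLoc.isDomain _
    infer_instance

theorem regular_quotient_iff [IsAlgClosed K] [IsRegularRing A] {B : Type u} [CommRing B] [Algebra A B] [Algebra K B]
    [IsScalarTower K A B] (hsurj : Function.Surjective (algebraMap A B)) :
    IsRegularRing B ↔
      (Module.Projective B (Ω[B⁄K]) ∧ Function.Injective (KaehlerDifferential.kerCotangentToTensor K A B)) := by
  haveI : Algebra.FormallySmooth K A := CotT.formallySmooth_of_maximal fun m _ => inferInstance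
  haveI : Algebra.FiniteType K B := Algebra.FiniteType.of_surjective (IsScalarTower.toAlgHom K A B) hsurj
  haveI : IsNoetherianRing B := Algebra.FiniteType.isNoetherianRing K B
  constructor
  · intro h
    haveI : Algebra.FormallySmooth K B := CotT.formallySmooth_of_maximal fun m _ => inferInstance
    exact ⟨inferInstance, (Algebra.FormallySmooth.kerCotangentToTensor_injective_iff hsurj).2 inferInstance⟩
  · rintro ⟨hp, hi⟩
    haveI : Algebra.FormallySmooth K B :=
      ⟨hp, (Algebra.FormallySmooth.kerCotangentToTensor_injective_iff hsurj).1 hi⟩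
    exact { isRegularLocalRing_localization := fun p _ => CotT.regular_of_formallySmooth (k := K) p }

end Groth.Agent.HypSec
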